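import Mathlib
import Cfsg.Agent.Base
import Cfsg.Agent.Lib.M12C.Tab
import Cfsg.Agent.Lib.LocStruct.SylowIn
import Cfsg.Prelude.Def_Transfer
import Cfsg.Agent.Lib.H4.YM1

/-!
# Tools for the centraliser `2 × M₁₂` (helper30)

Split extensions of groups given by tables, words, dihedral groups, counting transfer.
-/

set_option autoImplicit false
set_option linter.unusedSectionVars false

namespace H30.CM

open Subgroup H69 Cfsg H70.TM
open H54 (force force_eq)

scoped notation:max "𝐂₀(" z ")" => Subgroup.centralizer (Singleton.singleton z)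

section
variable {E G : Type*} [Group E] [Group G]

theorem mem_c {g y : G} : g ∈ 𝐂₀(y) ↔ g * y = y * g := mem_centralizer_singleton_iff

theorem cj_iff {g y : G} : g * y * g⁻¹ = y ↔ g * y = y * g := mul_inv_eq_iff_eq_mul

theorem cj_symm {g a b : G} (h : g * a * g⁻¹ = b) : g⁻¹ * b * g⁻¹⁻¹ = a := by rw [← h]; group

theorem cj_trans {g k a b c : G} (h : g * a * g⁻¹ = b) (h' : k * b * k⁻¹ = c) :
    k * g * a * (k * g)⁻¹ = c := by rw [← h', ← h]; group

theorem comm_mul {g a b : G} (h : g * a = a * g) (h' : g * b = b * g) : g * (a * b) = a * b * g :=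
  (Commute.mul_right h h' : Commute g (a * b))

theorem mul_comm' {g a b : G} (h : a * g = g * a) (h' : b * g = g * b) : a * b * g = g * (a * b) :=
  (comm_mul h.symm h'.symm).symm

theorem inv_comm {g a : G} (h : g * a = a * g) : g⁻¹ * a = a * g⁻¹ :=
  (Commute.inv_left h : Commute g⁻¹ a)

theorem cj_comm (g : G) {a b : G} (h : a * b = b * a) :
    g * a * g⁻¹ * (g * b * g⁻¹) = g * b * g⁻¹ * (g * a * g⁻¹) := by
  rw [conj_mul, conj_mul, h]

theorem cj_sq (g : G) {a : G} (h : a * a = 1) : g * a * g⁻¹ * (g * a * g⁻¹) = 1 := by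
  rw [conj_mul, h]; simp

theorem sylow_of_norm [Finite G] {T L : Subgroup G} (hp : IsPGroup 2 T) (hTL : T ≤ L)
    (h : ∀ g ∈ L, g ∈ 𝐍(T) → g ∈ T) : IsSylowIn 2 T L :=
  isSylowIn_of_normalizer hTL (by
    rw [show L ⊓ 𝐍(T) = T from le_antisymm (fun g hg => h g hg.1 hg.2) (le_inf hTL le_normalizer)]
    exact isSylowIn_self hp)

theorem isP_of_pow {T : Subgroup G} (k : ℕ) (h : ∀ g ∈ T, g ^ 2 ^ k = 1) : IsPGroup 2 T :=
  fun g => ⟨k, Subtype.ext (h g g.2)⟩

theorem exists_cj_mem [Finite G] {T L : Subgroup G} (h : IsSylowIn 2 T L) {u : G} (hu : u ∈ L) {k : ℕ}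
    (h2 : u ^ 2 ^ k = 1) : ∃ g ∈ L, g * u * g⁻¹ ∈ T := by
  obtain ⟨g, hg, e⟩ := h.exists_cj_le (R := zpowers u) (isP_of_pow k (by
    rintro _ ⟨i, rfl⟩
    rw [← zpow_natCast, ← zpow_mul, mul_comm, zpow_mul, zpow_natCast, h2, one_zpow])) (zpowers_le.2 hu)
  exact ⟨g, hg, e (cj_mem g (mem_zpowers u))⟩

/-- the conjugates of `y` -/
def Cj (y u : G) : Prop := ∃ g, g * y * g⁻¹ = u

theorem Cj.refl (y : G) : Cj y y := ⟨1, by simp⟩
theorem Cj.symm {y u : G} (h : Cj y u) : Cj u y := let ⟨g, e⟩ := h; ⟨g⁻¹, cj_symm e⟩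
theorem Cj.trans {y u w : G} (h : Cj y u) (h' : Cj u w) : Cj y w :=
  let ⟨_, e⟩ := h; let ⟨_, e'⟩ := h'; ⟨_, cj_trans e e'⟩
theorem Cj.map {y u : E} (φ : E →* G) (h : Cj y u) : Cj (φ y) (φ u) :=
  let ⟨g, e⟩ := h; ⟨φ g, by rw [← e, map_mul, map_mul, map_inv]⟩
theorem Cj.cj {y u : G} (h : Cj y u) (g : G) : Cj y (g * u * g⁻¹) := h.trans ⟨g, rfl⟩
theorem Cj.sq {y u : G} (h : Cj y u) (hy : y * y = 1) : u * u = 1 := by
  obtain ⟨g, rfl⟩ := h; exact cj_sq g hy
theorem Cj.ne {y u : G} (h : Cj y u) (hy : y ≠ 1) : u ≠ 1 := by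
  obtain ⟨g, rfl⟩ := h; rwa [Ne, conj_eq_one_iff]

/-- conjugation by `m` in the model -/
def Act (φ : E →* G) (m : G) (u w : E) : Prop := m * φ u * m⁻¹ = φ w

theorem Act.one (φ : E →* G) (m : G) : Act φ m 1 1 := by simp [Act]
theorem Act.mul {φ : E →* G} {m : G} {u w u' w' : E} (h : Act φ m u w) (h' : Act φ m u' w') :
    Act φ m (u * u') (w * w') := by
  unfold Act at *
  rw [map_mul, map_mul, ← h, ← h', conj_mul]
theorem Act.inv {φ : E →* G} {m : G} {u w : E} (h : Act φ m u w) : Act φ m u⁻¹ w⁻¹ := by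
  unfold Act at *
  rw [map_inv, map_inv, ← h, conj_inv]
theorem Act.of_eq {φ : E →* G} {m : G} {u w u' w' : E} (h : Act φ m u w) (e : u = u' ∧ w = w') :
    Act φ m u' w' := e.1 ▸ e.2 ▸ h
theorem Act.to {φ : E →* G} {m : G} {u w w' : E} (h : Act φ m u w) (e : w = w') :
    Act φ m u w' := e ▸ h
theorem Act.symm {φ : E →* G} {m : G} {u w : E} (h : Act φ m u w) : Act φ m⁻¹ w u := cj_symm h
theorem Act.trans {φ : E →* G} {m n : G} {u w y : E} (h : Act φ m u w) (h' : Act φ n w y) :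
    Act φ (n * m) u y := cj_trans h h'
theorem Act.self (φ : E →* G) (k u : E) : Act φ (φ k) u (k * u * k⁻¹) := by simp [Act]
theorem Act.cj {φ : E →* G} {m : G} {u w : E} (h : Act φ m u w) : Cj (φ u) (φ w) := ⟨m, h⟩
theorem Act.eq {φ : E →* G} {m : G} {u w : E} (h : Act φ m u w) : m * φ u * m⁻¹ = φ w := h
theorem Act.of_cj (φ : E →* G) {k u w : E} (h : k * u * k⁻¹ = w) : Act φ (φ k) u w :=
  (Act.self φ k u).of_eq ⟨rfl, h⟩

end

noncomputable instance {t : GT} (y u : El t) : Decidable (Cj y u) :=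
  inferInstanceAs (Decidable (∃ g, g * y * g⁻¹ = u))

/-- an action by automorphisms -/
structure Ac (A K : Type) [Group A] [Group K] where
  act : K → A → A
  hom : ∀ k x y, act k (x * y) = act k x * act k y
  mul : ∀ k l x, act (k * l) x = act k (act l x)
  one : ∀ x, act 1 x = x

/-- the split extension -/
structure SE {A K : Type} [Group A] [Group K] (α : Ac A K) where
  r : A
  k : K

section
variable {A K : Type} [Group A] [Group K] {α : Ac A K}

theorem Ac.act_one (α : Ac A K) (k : K) : α.act k 1 = 1 := by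
  have := α.hom k 1 1
  rw [mul_one] at this
  exact (mul_eq_left.1 this.symm)

theorem SE.ext {u v : SE α} (h1 : u.r = v.r) (h2 : u.k = v.k) : u = v := by
  cases u; cases v; cases h1; cases h2; rfl

instance : Group (SE α) where
  mul u v := ⟨u.r * α.act u.k v.r, u.k * v.k⟩
  one := ⟨1, 1⟩
  inv u := ⟨α.act u.k⁻¹ u.r⁻¹, u.k⁻¹⟩
  mul_assoc u v w := SE.ext (show u.r * α.act u.k v.r * α.act (u.k * v.k) w.r =
    u.r * α.act u.k (v.r * α.act v.k w.r) by rw [α.hom, α.mul, mul_assoc]) (mul_assoc _ _ _)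
  one_mul u := SE.ext (show 1 * α.act 1 u.r = u.r by rw [one_mul, α.one]) (one_mul _)
  mul_one u := SE.ext (show u.r * α.act u.k 1 = u.r by rw [α.act_one, mul_one]) (mul_one _)
  inv_mul_cancel u := SE.ext (show α.act u.k⁻¹ u.r⁻¹ * α.act u.k⁻¹ u.r = 1 by
    rw [← α.hom, inv_mul_cancel, α.act_one]) (inv_mul_cancel _)

instance [DecidableEq A] [DecidableEq K] : DecidableEq (SE α) := fun u v =>
  decidable_of_iff (u.r = v.r ∧ u.k = v.k) ⟨fun h => SE.ext h.1 h.2, fun h => h ▸ ⟨rfl, rfl⟩⟩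

def SE.equiv (α : Ac A K) : SE α ≃ A × K :=
  ⟨fun u => (u.r, u.k), fun p => ⟨p.1, p.2⟩, fun _ => rfl, fun _ => rfl⟩

instance [Finite A] [Finite K] : Finite (SE α) := Finite.of_equiv _ (SE.equiv α).symm

theorem SE.card : Nat.card (SE α) = Nat.card A * Nat.card K := by
  rw [Nat.card_congr (SE.equiv α), Nat.card_prod]

/-- the normal factor -/
def inl (α : Ac A K) : A →* SE α where
  toFun r := ⟨r, 1⟩
  map_one' := rfl
  map_mul' x y := SE.ext (show x * y = x * α.act 1 y by rw [α.one]) (mul_one _).symm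

/-- the complement -/
def inr (α : Ac A K) : K →* SE α where
  toFun k := ⟨1, k⟩
  map_one' := rfl
  map_mul' x y := SE.ext (show 1 = 1 * α.act x 1 by rw [α.act_one, mul_one]) rfl

theorem eq_inl {u : SE α} (h : u.k = 1) : u = inl α u.r := SE.ext rfl h

variable {G : Type*} [Group G]

/-- the homomorphism given on the two factors -/
def lift (α : Ac A K) (f : A →* G) (g : K →* G)
    (h : ∀ k r, g k * f r * (g k)⁻¹ = f (α.act k r)) : SE α →* G where
  toFun u := f u.r * g u.k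
  map_one' := show f 1 * g 1 = 1 by simp
  map_mul' u v := show f (u.r * α.act u.k v.r) * g (u.k * v.k) = f u.r * g u.k * (f v.r * g v.k) by
    rw [map_mul, map_mul, ← h]; group

theorem lift_inl {f : A →* G} {g : K →* G} (h : ∀ k r, g k * f r * (g k)⁻¹ = f (α.act k r))
    (r : A) : lift α f g h (inl α r) = f r := show f r * g 1 = f r by simp

theorem lift_inr {f : A →* G} {g : K →* G} (h : ∀ k r, g k * f r * (g k)⁻¹ = f (α.act k r))
    (k : K) : lift α f g h (inr α k) = g k := show f 1 * g k = g k by simp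

theorem inl_mul_inr (u : SE α) : inl α u.r * inr α u.k = u :=
  SE.ext (show u.r * α.act 1 1 = u.r by rw [α.one, mul_one]) (one_mul _)

end

section
variable {A K : GT} {α : Ac (El A) (El K)}

noncomputable instance decForallSE {P : SE α → Prop} [DecidablePred P] : Decidable (∀ u, P u) :=
  decidable_of_iff (∀ k r, P ⟨r, k⟩) ⟨fun h u => h u.k u.r, fun h _ _ => h _⟩

noncomputable instance decExistsSE {P : SE α → Prop} [DecidablePred P] : Decidable (∃ u, P u) :=
  decidable_of_iff (∃ k r, P ⟨r, k⟩) ⟨fun ⟨_, _, h⟩ => ⟨_, h⟩, fun ⟨u, h⟩ => ⟨u.k, u.r, h⟩⟩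

/-- an action given by a table -/
noncomputable def tact (A K : GT) (T : H54.Tr) (k : El K) (r : El A) : El A :=
  ⟨A.ent (force k.val T.get) r.val, A.ent_lt _ _⟩

/-- the conditions on the table -/
def TOk (A K : GT) (T : H54.Tr) : Prop :=
  (∀ k, tact A K T k 1 = 1 ∧ ∀ g ∈ A.gs, ∀ r, tact A K T k (El.of A g * r) =
    tact A K T k (El.of A g) * tact A K T k r) ∧ ∀ g ∈ A.gs, tact A K T 1 (El.of A g) = El.of A g ∧
    ∀ k l, tact A K T (k * l) (El.of A g) = tact A K T k (tact A K T l (El.of A g))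

noncomputable instance (A K : GT) (T : H54.Tr) : Decidable (TOk A K T) := by
  unfold TOk; infer_instance

theorem TOk.hom {T : H54.Tr} (h : TOk A K T) (k : El K) (x y : El A) :
    tact A K T k (x * y) = tact A K T k x * tact A K T k y := by
  induction x using El.induction with
  | h1 => rw [one_mul, (h.1 k).1, one_mul]
  | h g hg u ih => rw [mul_assoc, (h.1 k).2 g hg, (h.1 k).2 g hg, ih, mul_assoc]

noncomputable def ofTab (A K : GT) (T : H54.Tr) (h : TOk A K T) : Ac (El A) (El K) where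
  act := tact A K T
  hom := h.hom
  mul k l x := by
    induction x using El.induction with
    | h1 => rw [(h.1 _).1, (h.1 _).1, (h.1 _).1]
    | h g hg u ih => rw [h.hom, h.hom, h.hom, ih, (h.2 g hg).2]
  one x := by
    induction x using El.induction with
    | h1 => exact (h.1 _).1
    | h g hg u ih => rw [h.hom, ih, (h.2 g hg).1]

variable {G : Type*} [Group G]

theorem act_of_gens {f : El A →* G} {m : G} {F : El A → El A} (h1 : F 1 = 1)
    (hF : ∀ g ∈ A.gs, ∀ r, F (El.of A g * r) = F (El.of A g) * F r)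
    (h : ∀ g ∈ A.gs, Act f m (El.of A g) (F (El.of A g))) (r : El A) : Act f m r (F r) := by
  induction r using El.induction with
  | h1 => rw [h1]; exact Act.one _ _
  | h g hg u ih => rw [hF g hg]; exact (h g hg).mul ih

theorem compat {f : El A →* G} {g : El K →* G}
    (h : ∀ k ∈ K.gs, ∀ a ∈ A.gs, Act f (g (El.of K k)) (El.of A a) (α.act (El.of K k) (El.of A a)))
    (k : El K) : ∀ r, g k * f r * (g k)⁻¹ = f (α.act k r) := by
  induction k using El.induction with
  | h1 => intro r; rw [α.one, map_one]; simp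
  | h k hk u ih =>
    intro r
    rw [α.mul, map_mul]
    exact cj_trans (ih r) (act_of_gens (α.act_one _) (fun _ _ _ => α.hom _ _ _) (h k hk) _)

end

section
variable {E G : Type*} [Group E] [Group G]

/-- the word with the digits of `c` in base 16 -/
def evw (l : List E) (f : ℕ) : ℕ → E :=
  Nat.rec (fun _ => 1) (fun _ ih c => cond (Nat.beq c 0) 1
    (l.getD (Nat.pred (Nat.mod c 16)) 1 * ih (Nat.div c 16))) f

theorem evw_succ (l : List E) (f c : ℕ) : evw l (f + 1) c = cond (Nat.beq c 0) 1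
    (l.getD (Nat.pred (Nat.mod c 16)) 1 * evw l f (Nat.div c 16)) := rfl

theorem getD_rel {E' : Type*} {R : E → E' → Prop} {l : List E} {l' : List E'} {a : E} {a' : E'}
    (h : List.Forall₂ R l l') (h0 : R a a') (i : ℕ) : R (l.getD i a) (l'.getD i a') := by
  induction h generalizing i with
  | nil => exact h0
  | cons h1 _ ih => cases i with
    | zero => exact h1
    | succ i => exact ih i

theorem evw_rel {E' : Type*} [Group E'] {R : E → E' → Prop} {l : List E} {l' : List E'}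
    (h : List.Forall₂ R l l') (h0 : R 1 1) (hm : ∀ a a' b b', R a a' → R b b' → R (a * b) (a' * b'))
    (f : ℕ) : ∀ c, R (evw l f c) (evw l' f c) := by
  induction f with
  | zero => exact fun _ => h0
  | succ f ih =>
    intro c
    rw [evw_succ, evw_succ]
    cases Nat.beq c 0
    exacts [hm _ _ _ _ (getD_rel h h0 _) (ih _), h0]

theorem act_evw {φ : E →* G} {m : G} {l l' : List E} (h : List.Forall₂ (Act φ m) l l') (c : ℕ) :
    Act φ m (evw l 16 c) (evw l' 16 c) := evw_rel h (Act.one _ _) (fun _ _ _ _ => Act.mul) _ _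

theorem act_w {φ : E →* G} {m : G} {l l' : List E} (h : List.Forall₂ (Act φ m) l l') (c : ℕ)
    {u w : E} (e : evw l 16 c = u ∧ evw l' 16 c = w) : Act φ m u w := (act_evw h c).of_eq e

/-- an entry of a table of words -/
def wdt (D i : ℕ) : ℕ := Nat.land (Nat.shiftRight D (Nat.mul 64 i)) 0xffffffffffffffff

theorem Act.fix {φ : E →* G} {m : G} {u : E} (h : Act φ m u u) : m * φ u = φ u * m :=
  cj_iff.1 h

theorem act_of_comm {φ : E →* G} {m : G} {u : E} (h : m * φ u = φ u * m) : Act φ m u u :=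
  cj_iff.2 h

theorem act_inj {φ : E →* G} (hi : Function.Injective φ) {m : G} {u w w' : E} (h : Act φ m u w)
    (h' : Act φ m u w') : w = w' := hi (h.eq.symm.trans h'.eq)

theorem act_inj' {φ : E →* G} (hi : Function.Injective φ) {m : G} {u u' w : E} (h : Act φ m u w)
    (h' : Act φ m u' w) : u = u' := act_inj hi h.symm h'.symm

theorem act_map {φ : E →* G} (hi : Function.Injective φ) {k u w : E} (h : Act φ (φ k) u w) :
    k * u * k⁻¹ = w := act_inj hi (Act.self φ k u) h

theorem inj_of' {L : List E} {P : E → Prop} (h : ∀ u : E, u = 1 ∨ P u ∨ ∃ k ∈ L,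
    P (u * k * u⁻¹ * k⁻¹) ∨ ∃ l ∈ L, P (u * k * u⁻¹ * k⁻¹ * l * (u * k * u⁻¹ * k⁻¹)⁻¹ * l⁻¹))
    {f : E →* G} (hf : ∀ u, P u → f u ≠ 1) : Function.Injective f :=
  (injective_iff_map_eq_one f).2 fun u hu => by
    rcases h u with e | e | ⟨k, -, e | ⟨l, -, e⟩⟩
    · exact e
    · exact absurd hu (hf _ e)
    · exact absurd (by simp [hu]) (hf _ e)
    · exact absurd (by simp [hu]) (hf _ e)

/-- two involutions modulo a subgroup -/
theorem dih [Finite G] {x y : G} (hx : x * x = 1) (hy : y * y = 1) (N : Subgroup G) :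
    (∃ w, (∀ K : Subgroup G, x ∈ K → y ∈ K → w ∈ K) ∧ w * w = 1 ∧ w * x * w⁻¹ * y ∈ N) ∨
    ∃ z, (∀ K : Subgroup G, x ∈ K → y ∈ K → z ∈ K) ∧ z ∉ N ∧ z * z ∈ N ∧
      z * x * z⁻¹ = z * z * x ∧ z * y * z⁻¹ = z * z * y ∧
      (∃ g, (∀ K : Subgroup G, x ∈ K → y ∈ K → g ∈ K) ∧
        (z * x = g * x * g⁻¹ ∨ z * x = g * y * g⁻¹)) ∧
      ∃ g, (∀ K : Subgroup G, x ∈ K → y ∈ K → g ∈ K) ∧
        (z * y = g * x * g⁻¹ ∨ z * y = g * y * g⁻¹) := by
  classical
  have xi : x⁻¹ = x := inv_eq_of_mul_eq_one_right hx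
  have yi : y⁻¹ = y := inv_eq_of_mul_eq_one_right hy
  have mem : ∀ k : ℕ, ∀ K : Subgroup G, x ∈ K → y ∈ K → (x * y) ^ k ∈ K :=
    fun k K a b => pow_mem (mul_mem a b) k
  have ex : ∀ k : ℕ, x * ((x * y) ^ k)⁻¹ = (x * y) ^ k * x := fun k => by
    have : x * (x * y)⁻¹ * x⁻¹ = x * y := by rw [mul_inv_rev, xi, yi, mul_assoc, mul_assoc, hx, mul_one]
    rw [← inv_pow, ← mul_inv_eq_iff_eq_mul, ← conj_pow, this]
  have ey : ∀ k : ℕ, y * ((x * y) ^ k)⁻¹ = (x * y) ^ k * y := fun k => by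
    have : y * (x * y)⁻¹ * y⁻¹ = x * y := by rw [mul_inv_rev, xi, yi, ← mul_assoc, hy, one_mul]
    rw [← inv_pow, ← mul_inv_eq_iff_eq_mul, ← conj_pow, this]
  have cx : ∀ k : ℕ, (x * y) ^ k * x * ((x * y) ^ k)⁻¹ = (x * y) ^ (2 * k) * x := fun k => by
    rw [mul_assoc, ex, ← mul_assoc, ← pow_add, two_mul]
  have cy : ∀ k : ℕ, (x * y) ^ k * y * ((x * y) ^ k)⁻¹ = (x * y) ^ (2 * k) * y := fun k => by
    rw [mul_assoc, ey, ← mul_assoc, ← pow_add, two_mul]
  have hex : ∃ n, 0 < n ∧ (x * y) ^ n ∈ N :=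
    ⟨_, orderOf_pos (x * y), by rw [pow_orderOf_eq_one]; exact one_mem _⟩
  obtain ⟨n0, n1⟩ := Nat.find_spec hex
  have n2 := fun m => @Nat.find_min _ _ hex m
  generalize Nat.find hex = n at *
  rcases Nat.even_or_odd' n with ⟨m, rfl | rfl⟩
  · right
    have s1 : ∀ k : ℕ, (x * y) ^ (k + 1) * y = (x * y) ^ k * x := fun k => by
      rw [pow_succ, mul_assoc, mul_assoc, hy, mul_one]
    refine ⟨(x * y) ^ m, mem m, fun c => n2 m (by omega) ⟨by omega, c⟩,
      by rwa [← pow_add, ← two_mul], by rw [cx, ← pow_add, two_mul],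
      by rw [cy, ← pow_add, two_mul], ?_, ?_⟩
    · rcases Nat.even_or_odd' m with ⟨k, rfl | rfl⟩
      · exact ⟨_, mem k, Or.inl (cx k).symm⟩
      · exact ⟨_, mem (k + 1), Or.inr (by rw [cy, ← s1]; rfl)⟩
    · rcases Nat.even_or_odd' m with ⟨k, rfl | rfl⟩
      · exact ⟨_, mem k, Or.inr (cy k).symm⟩
      · exact ⟨_, mem k, Or.inl (by rw [cx, s1])⟩
  · left
    refine ⟨(x * y) ^ m * x, fun K a b => mul_mem (mem m K a b) a, ?_, ?_⟩
    · nth_rewrite 1 [← ex]
      rw [mul_assoc, inv_mul_cancel_left, hx]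
    · have : (x * y) ^ m * x * x * ((x * y) ^ m * x)⁻¹ = (x * y) ^ (2 * m) * x := by
        rw [← cx, mul_inv_rev, mul_assoc _ x x, hx, xi, mul_one, mul_assoc]
      rwa [this, mul_assoc, ← pow_succ]

theorem even_ncard [Finite G] {X : Set G} {t : G} (h1 : t ≠ 1) (h2 : t * t = 1)
    (h : ∀ w ∈ X, w * t ∈ X) : 2 ∣ X.ncard := by
  classical
  have := Finset.sum_involution (s := X.toFinite.toFinset) (f := fun _ => (1 : ZMod 2))
    (fun w _ => w * t) (fun _ _ => by decide) (fun _ _ _ c => h1 (mul_eq_left.1 c))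
    (fun w hw => by simpa using h w (by simpa using hw)) (fun _ _ => by rw [mul_assoc, h2, mul_one])
  rw [Set.ncard_eq_toFinset_card X, ← ZMod.natCast_eq_zero_iff]
  simpa using this

open H4.YM in
/-- the parity of an involution acting on a coset space -/
theorem parity [Finite G] {t : G} (hG : t ∈ pResidual 2 G) (ht : t * t = 1)
    (H : Subgroup G) : ∃ f, f * Nat.card H =
      Set.ncard {x | x ∈ H ∧ Cj t x} * Nat.card 𝐂₀(t) ∧ f % 4 = H.index % 4 := by
  classical
  have := Fintype.ofFinite (G ⧸ H)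
  let φ := MulAction.toPermHom G (G ⧸ H)
  have h2 : φ t ^ 2 = 1 := by rw [← map_pow, pow_two, ht, map_one]
  have hs : Equiv.Perm.sign (φ t) = 1 := by
    refine (closure_le (Equiv.Perm.sign.comp φ).ker).2 (fun g hg => ?_) hG
    have a : (Equiv.Perm.sign.comp φ) g ^ orderOf g = 1 := by
      rw [← map_pow, pow_orderOf_eq_one, map_one]
    have b : Odd (orderOf g) := Nat.coprime_two_right.1 hg
    rcases Int.units_eq_one_or ((Equiv.Perm.sign.comp φ) g) with e | e
    · exact e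
    · rw [e, b.neg_one_pow] at a; exact absurd a (by decide)
  refine ⟨Fintype.card (Function.fixedPoints (φ t)), ?_, ?_⟩
  · have e1 := Nat.card_congr (QuotientGroup.preimageMkEquivSubgroupProdSet H
      (Function.fixedPoints (φ t)))
    have e2 := card_fibre ⊤ t (· ∈ H)
    rw [Nat.card_prod, mul_comm, Nat.card_eq_fintype_card (α := Function.fixedPoints (φ t))] at e1
    rw [← e1, Nat.card_coe_set_eq, ← Set.ncard_image_of_injective _ inv_injective]
    rw [top_inf_eq] at e2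
    convert e2 using 2
    · ext g
      obtain ⟨g, rfl⟩ := inv_surjective g
      rw [inv_injective.mem_set_image]
      simp only [Set.mem_preimage, Function.mem_fixedPoints_iff, Set.mem_setOf_eq, mem_top, true_and]
      change ((t * g : G) : G ⧸ H) = g ↔ _
      rw [eq_comm, QuotientGroup.eq]
      simp [H4.YM.cj, mul_assoc]
    · congr 1
      ext y
      simp [orb, H4.YM.cj, Cj, and_comm]
  · have e1 := Equiv.Perm.sign_of_pow_two_eq_one h2
    have e2 := Equiv.Perm.card_fixedPoints_modEq (α := G ⧸ H) (f := fun x => φ t x) (p := 2) (n := 1)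
      (funext fun x => congrArg (fun s : Equiv.Perm (G ⧸ H) => s x) h2)
    have e3 : Fintype.card (Function.fixedPoints (φ t)) ≤ Fintype.card (G ⧸ H) :=
      Fintype.card_subtype_le _
    rw [hs, eq_comm, neg_one_pow_eq_one_iff_even (by decide), Nat.even_iff] at e1
    rw [index, Nat.card_eq_fintype_card]
    unfold Nat.ModEq at e2
    have e4 : Fintype.card (G ⧸ H) % 2 = Fintype.card (Function.fixedPoints (φ t)) % 2 := by
      convert e2
    omega

end

theorem eqns_CMGen : True := by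
  have := @TOk.eq_1
  have := @Act.eq_1.{0, 0}
  have := @Cj.eq_1.{0}
  trivial

end H30.CM
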