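import Mathlib
import Cfsg.Agent.Base
import Cfsg.Agent.Lib.Co3M.Gen
import Cfsg.Agent.Lib.Co3M.TE2
import Cfsg.Agent.Lib.M12C.IM12

/-!
# A frame for the centraliser `2 × M₁₂` (helper30)
-/

set_option autoImplicit false
set_option maxRecDepth 100000

namespace H30.CM

open Subgroup H69 Cfsg H70.TM H18.TC H96.Geo

/-- the element of order 3 in the normaliser of the four-group -/
structure XR {G : Type*} [Group G] (a b s u x : G) : Prop where
  x3 : x * x * x = 1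
  xa : x * a * x⁻¹ = b
  xb : x * b * x⁻¹ = a⁻¹ * b⁻¹
  xs : x * s = s * x
  ux : u * x * u = x⁻¹

/-- the frame -/
structure Fr {G : Type*} [Group G] (e a b s u x y : G) : Prop extends XR a b s u x where
  r2 : E2.Rel e a b s u y
  xe : x * e = e * x
  ne : a * a ≠ 1
  nsq : ∀ g, g * g ≠ e
  c1 : Nat.card 𝐂₀(e) = 190080
  c2 : Nat.card ↥(𝐂₀(e) ⊓ 𝐂₀(a * a)) ≤ 384

def cods : List ℕ := [984818244535754528103549039458486304, 485017938459012399916635587052063107,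
  652511242709664407116957080649672072, 651252496612629869266570458847789443,
  803933515614162339003086077774940429, 858457720553696862286071324534261795,
  321245923804234661355690178065600001]

theorem m12_list : ∃ (l : List Spor.M12), l.length = 7 ∧
    (∀ R ∈ E2E.rels, ev (lt (l.take 6)) R = 1) ∧ (∀ R ∈ [[12, 12, 12], [5, 13, 2, 12], [2, 4, 13, 4, 12],
      [7, 13, 6, 12], [12, 8, 12, 8]], ev (lt l) R = 1) ∧
    Nat.card 𝐂₀(ev (lt l) [2, 2]) = 192 := by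
  have hS : ∀ s ∈ cods, H54.In cfg24 H15.pt Spor.M12 s :=
    H96.Geo.M12.chain.all_in X24 (by decide +kernel)
  obtain ⟨l, hl⟩ := exists_forall₂ hS
  have hK : H54.Kfix Spor.M12 cfg24 H15.pt = ⊥ := H54.Kfix_eq_bot pt_surj
  exact ⟨l, hl.length_eq.trans (by decide +kernel),
    sat_of_codes X24 hK (List.forall₂_take 6 hl) (by decide +kernel),
    sat_of_codes X24 hK hl (by decide +kernel),
    H70.M12.card_cent ((rep_ev X24 hl [2, 2]).of_eqc X24 (by decide +kernel))⟩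

theorem gens_of_list {G : Type*} [Group G] (h : ∃ (l : List G), l.length = 7 ∧
    (∀ R ∈ E2E.rels, ev (lt (l.take 6)) R = 1) ∧ (∀ R ∈ [[12, 12, 12], [5, 13, 2, 12], [2, 4, 13, 4, 12],
      [7, 13, 6, 12], [12, 8, 12, 8]], ev (lt l) R = 1) ∧
    Nat.card 𝐂₀(ev (lt l) [2, 2]) = 192) : ∃ e a b s u y x : G, E2.Rel e a b s u y ∧
      XR a b s u x ∧ Nat.card 𝐂₀(a * a) = 192 := by
  obtain ⟨l, h, h1, h2, h3⟩ := h
  match l, h with
  | [e, a, b, s, u, y, x], _ =>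
    obtain ⟨k0, h2⟩ := List.forall_mem_cons.1 h2
    obtain ⟨k1, h2⟩ := List.forall_mem_cons.1 h2
    obtain ⟨k2, h2⟩ := List.forall_mem_cons.1 h2
    obtain ⟨k3, h2⟩ := List.forall_mem_cons.1 h2
    obtain ⟨k4, h2⟩ := List.forall_mem_cons.1 h2
    refine ⟨e, a, b, s, u, y, x, E2.Rel.of_sat h1, ⟨?_, mul_inv_eq_one.1 ?_, mul_inv_eq_one.1 ?_,
      mul_inv_eq_one.1 ?_, mul_inv_eq_one.1 ?_⟩, by
      rwa [show ev (lt [e, a, b, s, u, y, x]) [2, 2] = a * a from congrArg (a * ·) (mul_one a)] at h3⟩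
    · simpa only [mul_assoc, mul_one] using (show x * (x * (x * 1)) = 1 from k0)
    · simpa only [mul_assoc, mul_one] using (show x * (a * (x⁻¹ * (b⁻¹ * 1))) = 1 from k1)
    · simpa only [mul_assoc, mul_one, mul_inv_rev, inv_inv] using
        (show x * (b * (x⁻¹ * (b * (a * 1)))) = 1 from k2)
    · simpa only [mul_assoc, mul_one, mul_inv_rev] using
        (show x * (s * (x⁻¹ * (s⁻¹ * 1))) = 1 from k3)
    · simpa only [mul_assoc, mul_one, inv_inv] using (show u * (x * (u * (x * 1))) = 1 from k4)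

theorem frame_of {G M : Type*} [Group G] [Group M] [Finite M] [IsSimpleGroup M] {e : G}
    (he : orderOf e = 2) (ψ : 𝐂₀(e) ≃* Multiplicative (ZMod 2) × M) (hM : Nat.card M = 95040)
    (h : ∃ e a b s u y x : M, E2.Rel e a b s u y ∧ XR a b s u x ∧ Nat.card 𝐂₀(a * a) = 192) :
    ∃ a b s u x y, Fr e a b s u x y := by
  obtain ⟨e0, a, b, s, u, y, x, h1, h2, h3⟩ := h
  let θ : M →* G := (𝐂₀(e)).subtype.comp (ψ.symm.toMonoidHom.comp (MonoidHom.inr _ _))
  have hθ : ∀ m, θ m * e = e * θ m := fun m => mem_c.1 (ψ.symm (1, m)).2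
  have ne : a * a ≠ 1 := fun c => by
    rw [c, show 𝐂₀((1 : M)) = ⊤ from eq_top_iff.2 fun g _ => mem_c.2 (by simp), card_top, hM] at h3
    omega
  have e1 : e ≠ 1 := fun c => by rw [c, orderOf_one] at he; omega
  have e2 : (ψ ⟨e, mem_c.2 rfl⟩).2 = 1 := by
    have c : (ψ ⟨e, mem_c.2 rfl⟩).2 ∈ center M := mem_center_iff.2 fun m => by
      have := congrArg (fun g => (ψ g).2) (show ψ.symm (1, m) * ⟨e, mem_c.2 rfl⟩ =
        ⟨e, mem_c.2 rfl⟩ * ψ.symm (1, m) from Subtype.ext (hθ m))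
      simpa using this
    rcases (inferInstance : (center M).Normal).eq_bot_or_eq_top with d | d
    · rwa [d] at c
    · have : 𝐂₀(a * a) = ⊤ := eq_top_iff.2 fun g _ =>
        mem_c.2 (mem_center_iff.1 (d ▸ mem_top (a * a)) g)
      rw [this, card_top, hM] at h3
      omega
  obtain ⟨r0, r1, r2, r3, r4, r5, r6, r7, r8, r9, -, -, -, -, -, s0, s1, s2, s3, s4, s5, -⟩ :=
    h1.map θ
  refine ⟨θ a, θ b, θ s, θ u, θ x, θ y, ⟨?_, ?_, ?_, ?_, ?_⟩, ⟨r0, r1, r2, r3, r4, r5, r6, r7, r8, r9,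
    by rw [← pow_two, ← he, pow_orderOf_eq_one], (hθ _).symm, (hθ _).symm, (hθ _).symm, (hθ _).symm,
    s0, s1, s2, s3, s4, s5, hθ _⟩, hθ _, fun c => ne ?_, fun g c => e1 ?_, ?_, ?_⟩
  · simpa only [map_mul, map_one] using congrArg θ h2.x3
  · simpa only [map_mul, map_inv] using congrArg θ h2.xa
  · simpa only [map_mul, map_inv] using congrArg θ h2.xb
  · simpa only [map_mul] using congrArg θ h2.xs
  · simpa only [map_mul, map_inv] using congrArg θ h2.ux
  · rw [← map_mul] at c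
    have : ψ.symm (1, a * a) = 1 := Subtype.ext c
    simpa using this
  · have m : g ∈ 𝐂₀(e) := mem_c.2 (by rw [← c, mul_assoc])
    have : ψ ⟨e, mem_c.2 rfl⟩ = 1 := Prod.ext (by
      rw [show (⟨e, mem_c.2 rfl⟩ : 𝐂₀(e)) = ⟨g, m⟩ * ⟨g, m⟩ from Subtype.ext c.symm, map_mul]
      exact (by decide : ∀ z : Multiplicative (ZMod 2), z * z = 1) _) e2
    exact congrArg Subtype.val ((map_eq_one_iff ψ ψ.injective).1 this)
  · rw [Nat.card_congr ψ.toEquiv, Nat.card_prod, hM]; simp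
  · have k : ∀ g : ↥(𝐂₀(e) ⊓ 𝐂₀(θ a * θ a)), (ψ ⟨g, g.2.1⟩).2 ∈ 𝐂₀(a * a) := fun g => mem_c.2 (by
      have := congrArg (fun g => (ψ g).2) (show ⟨g, g.2.1⟩ * ψ.symm (1, a * a) =
        ψ.symm (1, a * a) * ⟨g, g.2.1⟩ from Subtype.ext (by
          show g.1 * θ (a * a) = θ (a * a) * g.1
          rw [map_mul]; exact mem_c.1 g.2.2))
      simpa using this)
    refine (Nat.card_le_card_of_injective (fun g : ↥(𝐂₀(e) ⊓ 𝐂₀(θ a * θ a)) =>
      ((ψ ⟨g, g.2.1⟩).1, (⟨_, k g⟩ : 𝐂₀(a * a)))) fun g g' c => ?_).trans ?_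
    · have := ψ.injective (Prod.ext (Prod.ext_iff.1 c).1 (congrArg Subtype.val (Prod.ext_iff.1 c).2))
      exact Subtype.ext (congrArg (fun z : 𝐂₀(e) => (z : G)) this)
    · rw [Nat.card_prod, h3]; simp

theorem exists_frame {G : Type*} [Group G] {e : G} (he : orderOf e = 2)
    (hC : Nonempty (𝐂₀(e) ≃* Multiplicative (ZMod 2) × Spor.M12)) :
    ∃ a b s u x y, Fr e a b s u x y :=
  have := H15.isSimple_M12
  let ⟨ψ⟩ := hC
  frame_of he ψ H15.card_M12 (gens_of_list m12_list)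

end H30.CM
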