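import Mathlib
import Cfsg.Agent.Base
import Cfsg.Agent.Lib.Co3M.Fr
import Cfsg.Agent.Lib.Co3M.F2

/-!
# The centraliser `2 × M₁₂`: first fusion (helper30)
-/

set_option autoImplicit false
set_option maxRecDepth 100000
set_option linter.unusedSectionVars false

namespace H30.CM

open Subgroup H69 Cfsg H70.TM

variable {G : Type*} [Group G] [Finite G]

theorem pow_eight {E : Type*} [Group E] (w : E) : w ^ 2 ^ 3 = w * w * (w * w) * (w * w * (w * w)) := by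
  rw [show 2 ^ 3 = 2 * 2 * 2 from rfl, pow_mul, pow_mul, pow_two, pow_two, pow_two]

theorem le_128 {S L : Subgroup G} (h : IsPGroup 2 S) (hl : S ≤ L) (hc : Nat.card L = 190080) :
    Nat.card S ≤ 128 := by
  obtain ⟨k, e⟩ := IsPGroup.iff_card.1 h
  have := card_dvd_of_le hl
  rw [e, hc] at this
  rw [e]
  by_contra c
  have k8 : 8 ≤ k := by
    by_contra d
    exact c ((Nat.pow_le_pow_right (by norm_num) (by omega : k ≤ 7)).trans (by norm_num))
  exact absurd ((pow_dvd_pow 2 k8).trans this) (by norm_num)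

namespace Fr
variable {e a b s u x y : G} (F : Fr e a b s u x y)
include F

theorem ee : e * e = 1 := F.r2.2.2.2.2.2.2.2.2.2.2.1

theorem ne3 : e ≠ 1 ∧ a * a ≠ 1 ∧ e * (a * a) ≠ 1 :=
  ⟨fun c => F.nsq 1 (by rw [c, one_mul]), F.ne, fun c => F.nsq a (by
    rw [← mul_right_inj e, c, F.ee])⟩

theorem not_cj {g : G} : ¬ Cj e (g * g) := fun ⟨k, c⟩ =>
  F.nsq (k⁻¹ * g * k⁻¹⁻¹) (by rw [conj_mul]; exact cj_symm c)

theorem modT : ∃ ψ : T.E →* G, Function.Injective ψ ∧ ψ T.e = e ∧ ψ T.a = a ∧ ψ T.b = b ∧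
    ψ T.s = s ∧ ψ T.u = u ∧ IsSylowIn 2 ψ.range 𝐂₀(e) ∧ Nat.card ψ.range = 128 := by
  obtain ⟨φ, h1, h2, h3, h4, h5, -⟩ := E2.model F.r2
  have r := E2.relT.map φ
  rw [h1, h2, h3, h4, h5] at r
  obtain ⟨ψ, rfl, rfl, rfl, rfl, rfl⟩ := T.model r
  have i : Function.Injective ψ := inj_of' T.inj (by
    rintro _ (rfl | rfl | rfl) <;> (try simp only [map_mul])
    exacts [F.ne3.1, F.ne3.2.1, F.ne3.2.2])
  have c : Nat.card ψ.range = 128 := by
    rw [← Nat.card_congr (MonoidHom.ofInjective i).toEquiv, T.card]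
  have l : ψ.range ≤ 𝐂₀(ψ T.e) := by
    rintro _ ⟨w, rfl⟩
    exact mem_c.2 (by rw [← map_mul, ← map_mul, (T.cen w).1])
  obtain ⟨S, hS⟩ := exists_isSylowIn 2 𝐂₀(ψ T.e)
  refine ⟨ψ, i, rfl, rfl, rfl, rfl, rfl, hS.of_card_le (isP_of_pow 3 ?_) l
    (c ▸ le_128 hS.isP hS.le F.c1), c⟩
  rintro _ ⟨w, rfl⟩
  rw [← map_pow, pow_eight, T.pow8, map_one]

theorem rank5 {f : G} (h : Cj e f) {L : List G} (hn : L.Nodup) (hl : 16 < L.length)
    (hL : ∀ w ∈ L, w * w = 1 ∧ w * f = f * w ∧ ∀ v ∈ L, w * v = v * w) : False := by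
  obtain ⟨ψ, i, rfl, -, -, -, -, hS, -⟩ := F.modT
  obtain ⟨g, hg⟩ := h.symm
  have pg : IsPGroup 2 (closure {w | w ∈ L}) := isP_of_pow 1 fun p hp => by
    rw [pow_one, pow_two]
    induction hp using closure_induction with
    | mem p hp => exact (hL p hp).1
    | one => exact mul_one _
    | mul p q hp hq a b =>
      have : p * q = q * p := congrArg Subtype.val
        ((closureCommGroupOfComm fun p hp q hq => (hL p hp).2.2 q hq).mul_comm ⟨p, hp⟩ ⟨q, hq⟩)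
      rw [mul_assoc, ← mul_assoc q, ← this, mul_assoc, b, mul_one, a]
    | inv p hp a => rw [← mul_inv_rev, a, inv_one]
  obtain ⟨c, hc, l⟩ := hS.exists_cj_le (R := closure {w | w ∈ L} ^ᶜ g) (pg.map _) (by
    rw [cj_le_iff, closure_le]
    exact fun w hw => mem_cj.2 (mem_c.2 (by rw [← hg, inv_inv]; exact cj_comm g (hL w hw).2.1)))
  rw [cj_cj] at l
  generalize c * g = k at l
  let ρ : T.E →* G := (MulAut.conj k⁻¹).toMonoidHom.comp ψ
  have ρi : Function.Injective ρ := (MulAut.conj k⁻¹).injective.comp i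
  have m : ∀ N : List T.E, N.length ≤ 16 → ∃ W, ρ W ∈ L ∧ W ∉ N := fun N hN => by
    by_contra! d
    refine absurd (List.subperm_of_subset hn (l₂ := N.map ρ) fun w hw => ?_).length_le
      (by rw [List.length_map]; omega)
    obtain ⟨W, e⟩ := l (cj_mem k (subset_closure hw))
    obtain rfl : ρ W = w := cj_symm e.symm
    exact List.mem_map_of_mem (d W hw)
  have sq : ∀ {W : T.E}, ρ W ∈ L → W * W = 1 := fun h => ρi (by rw [map_mul, (hL _ h).1, map_one])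
  have co : ∀ {W V : T.E}, ρ W ∈ L → ρ V ∈ L → W * V = V * W :=
    fun h h' => ρi (by rw [map_mul, (hL _ h).2.2 _ h', map_mul])
  obtain ⟨W₁, a1, b1⟩ := m [1, T.e, T.a * T.a, T.e * (T.a * T.a)] (by simp)
  obtain ⟨W₂, a2, b2⟩ := m (sp W₁ [1, T.e, T.a * T.a, T.e * (T.a * T.a)]) (by simp [sp])
  obtain ⟨W₃, a3, b3⟩ := m (sp W₂ (sp W₁ [1, T.e, T.a * T.a, T.e * (T.a * T.a)])) (by simp [sp])
  exact b3 (T.rank W₁ (sq a1) b1 W₂ (sq a2) (co a1 a2) b2 W₃ (sq a3) (co a1 a3) (co a2 a3))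

end Fr

theorem norm_T {ψ : T.E →* G} (i : Function.Injective ψ) (ns : ∀ g : G, ¬ Cj (ψ T.e) (g * g))
    {g : G} (hg : g ∈ 𝐍(ψ.range)) : (Act ψ g T.e T.e ∨ Act ψ g T.e (T.e * (T.a * T.a))) ∧
      Act ψ g (T.a * T.a) (T.a * T.a) := by
  have k : ∀ g ∈ 𝐍(ψ.range), ∀ w, ∃ w', Act ψ g w w' := fun g hg w =>
    let ⟨w', e⟩ := (mem_normalizer_iff.1 hg _).1 ⟨w, rfl⟩; ⟨w', e.symm⟩
  have z : ∀ {w w'}, Act ψ g w w' → (∀ k, w * k = k * w) → ∀ k, w' * k = k * w' := fun h c l => by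
    obtain ⟨l', h'⟩ := k _ (inv_mem hg) l
    have h' : Act ψ g l' l := by simpa only [inv_inv] using h'.symm
    exact act_inj i (h.mul h') ((h'.mul h).of_eq ⟨(c l').symm, rfl⟩)
  have o : ∀ {w}, Act ψ g w 1 → w = 1 := fun h => act_inj' i h (Act.one _ _)
  constructor
  · obtain ⟨w, h⟩ := k g hg T.e
    rcases T.zen w (z h fun k => (T.cen k).1) with rfl | rfl | rfl | rfl
    · exact absurd (o h) (by decide +kernel)
    · exact Or.inl h
    · exact absurd (map_mul ψ _ _ ▸ h.cj) (ns _)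
    · exact Or.inr h
  · obtain ⟨w, h⟩ := k g hg T.a
    rcases T.zen _ (z (h.mul h) fun k => (T.cen k).2) with c | c | c | c
    · exact absurd (o ((h.mul h).to c)) (by decide +kernel)
    · exact absurd c (T.nsq w).1
    · exact (h.mul h).to c
    · exact absurd c (T.nsq w).2

namespace Fr
variable {e a b s u x y : G} (F : Fr e a b s u x y)
include F

theorem cj_et (hO : e ∈ pResidual 2 G) : Cj e (e * (a * a)) := by
  by_contra c
  obtain ⟨ψ, i, rfl, rfl, -, -, -, hS, h128⟩ := F.modT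
  have sy : IsSylowIn 2 ψ.range ⊤ := isSylowIn_of_normalizer le_top
    (hS.mono (le_inf le_top le_normalizer) fun g hg => by
      rcases (norm_T i (fun _ => F.not_cj) hg.2).1 with h | h
      · exact mem_c.2 h.fix
      · exact absurd (by simpa only [map_mul] using h.cj) c)
  obtain ⟨f, h1, h2⟩ := parity hO F.ee (T.T0.map ψ)
  have h3 : Nat.card (T.T0.map ψ) = 64 := by rw [card_map_of_injective i, T.card_T0]
  obtain ⟨m, h4⟩ : 2 ∣ Set.ncard {x | x ∈ T.T0.map ψ ∧ Cj (ψ T.e) x} :=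
    even_ncard (t := ψ (T.a * T.a)) (by rw [map_mul]; exact F.ne)
      (by rw [← map_mul, show T.a * T.a * (T.a * T.a) = 1 by decide +kernel, map_one]) (by
        rintro _ ⟨⟨w, hw, rfl⟩, k⟩
        rw [← map_mul]
        refine ⟨⟨_, (T.pair w hw).1, rfl⟩, ?_⟩
        rcases (T.pair w hw).2 (i (by rw [map_mul, k.sq F.ee, map_one])) with rfl | rfl | d
        · exact absurd (map_one ψ) (k.ne F.ne3.1)
        · exact absurd (map_mul ψ _ _ ▸ k) F.not_cj
        · exact k.trans (d.map ψ))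
  have h5 := sy.not_dvd_relIndex
  have h6 := index_mul_card ψ.range
  have h7 := index_mul_card (T.T0.map ψ)
  rw [relIndex_top_right] at h5
  rw [h3, h4, F.c1] at h1
  rw [h128] at h6
  rw [h3] at h7
  omega

theorem mod2 : ∃ φ : E2.E →* G, Function.Injective φ ∧ φ E2.e = e ∧ φ E2.a = a ∧ φ E2.b = b ∧
    φ E2.s = s ∧ φ E2.u = u ∧ φ E2.y = y ∧
    ∀ g, g * e = e * g → g * (a * a) = a * a * g → ∃ w, φ w = g := by
  obtain ⟨φ, rfl, rfl, rfl, rfl, rfl, rfl⟩ := E2.model F.r2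
  have i : Function.Injective φ := inj_of' E2.inj (by
    rintro _ (rfl | rfl | rfl) <;> (try simp only [map_mul])
    exacts [F.ne3.1, F.ne3.2.1, F.ne3.2.2])
  refine ⟨φ, i, rfl, rfl, rfl, rfl, rfl, rfl, fun g h1 h2 => ?_⟩
  have : φ.range = 𝐂₀(φ E2.e) ⊓ 𝐂₀(φ E2.a * φ E2.a) := eq_of_le_of_card_ge (by
    rintro _ ⟨w, rfl⟩
    exact ⟨mem_c.2 (by rw [← map_mul, ← map_mul, (E2.cen w).1]),
      mem_c.2 (by rw [← map_mul, ← map_mul, ← map_mul, (E2.cen w).2])⟩) (by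
    rw [← Nat.card_congr (MonoidHom.ofInjective i).toEquiv, E2.card]; exact F.c2)
  exact this.ge ⟨mem_c.2 h1, mem_c.2 h2⟩

theorem exists_swap (hO : e ∈ pResidual 2 G) :
    ∃ g, g * e * g⁻¹ = e * (a * a) ∧ g * (a * a) * g⁻¹ = a * a := by
  obtain ⟨h, hh⟩ := (F.cj_et hO).symm
  obtain ⟨ψ, i, rfl, rfl, -, -, -, hS, -⟩ := F.modT
  obtain ⟨c, hc, l⟩ := hS.exists_cj_le (R := ψ.range ^ᶜ h) (hS.isP.map _) (by
    rw [cj_le_iff]
    rintro _ ⟨w, rfl⟩
    refine mem_cj.2 (mem_c.2 ?_)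
    rw [← hh, inv_inv]
    refine cj_comm h ?_
    simp only [← map_mul]
    rw [comm_mul (T.cen w).1.symm (T.cen w).2.symm])
  rw [cj_cj] at l
  have k := cj_trans hh (cj_iff.2 (mem_c.1 hc))
  have t := (norm_T i (fun _ => F.not_cj) (mem_normalizer_of_cj_le l)).2.eq
  rw [map_mul] at t
  refine ⟨c * h, ?_, t⟩
  rw [← conj_mul, t] at k
  rw [eq_mul_inv_of_mul_eq k, ← map_mul, ← map_inv, show (T.a * T.a)⁻¹ = T.a * T.a by decide +kernel]

end Fr

end H30.CM
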