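import Mathlib
import Cfsg.Agent.Base
import Cfsg.Agent.Lib.Co3M.St2
import Cfsg.Agent.Lib.Co3M.TR01
import Cfsg.Agent.Lib.Co3M.TR10

/-!
# The centraliser `2 × M₁₂`: two impossible groups of order 256 (helper30)
-/

set_option autoImplicit false
set_option maxRecDepth 100000
set_option linter.unusedSectionVars false

namespace H30.CM

open Subgroup H69 Cfsg H70.TM

variable {G : Type*} [Group G] [Finite G]

theorem E2.sq12 : ∀ w : E2.E, w * w = E2.a * E2.a → w * (E2.b * E2.b) = E2.b * E2.b * w →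
    ∀ v : E2.E, v * v = E2.b * E2.b → w * v * (w * v) ≠ 1 := by decide +kernel

namespace Fr
variable {e a b s u x y : G} (F : Fr e a b s u x y)
include F

theorem memD {K : Subgroup G} (he : e ∈ K) (ha : a ∈ K) (hb : b ∈ K) (hs : s ∈ K) {g : G}
    (h1 : g * e = e * g) (h2 : g * (a * a) = a * a * g) (h3 : g * (b * b) = b * b * g) : g ∈ K := by
  obtain ⟨φ, i, rfl, rfl, rfl, rfl, rfl, rfl, h⟩ := F.mod2
  obtain ⟨w, rfl⟩ := h g h1 h2
  rw [← E2.inD_of w (i (by simpa only [map_mul] using h3))]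
  exact evw_rel (R := fun w (_ : E2.E) => φ w ∈ K) (.cons he (.cons ha (.cons hb (.cons hs .nil))))
    (l' := [1, 1, 1, 1]) (map_one φ ▸ one_mem K) (fun _ _ _ _ h k => map_mul φ _ _ ▸ mul_mem h k) _ _

theorem ne4 : a * a ≠ 1 ∧ b * b ≠ 1 ∧ a * a * (b * b) ≠ 1 := by
  obtain ⟨φ, i, rfl, rfl, rfl, rfl, rfl, rfl, h⟩ := F.mod2
  simp only [← map_mul, Ne, map_eq_one_iff φ i]
  decide +kernel

theorem sq12 {g w v : G} (h2 : g * (a * a) = a * a * g) (h3 : g * (b * b) = b * b * g)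
    (w1 : w * (g * e * g⁻¹) = g * e * g⁻¹ * w) (v1 : v * (g * e * g⁻¹) = g * e * g⁻¹ * v)
    (w2 : w * w = a * a) (v2 : v * v = b * b) (w3 : w * (b * b) = b * b * w)
    (v3 : v * (a * a) = a * a * v) : w * v * (w * v) ≠ 1 := by
  obtain ⟨φ, i, rfl, rfl, rfl, rfl, rfl, rfl, h⟩ := F.mod2
  have k2 := cj_iff.2 (inv_comm h2)
  have k3 := cj_iff.2 (inv_comm h3)
  obtain ⟨W, c⟩ := h (g⁻¹ * w * g⁻¹⁻¹) (by simpa only [cj_symm rfl] using cj_comm g⁻¹ w1)
    (by rw [← k2]; exact cj_comm _ (by rw [← w2, mul_assoc]))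
  obtain ⟨V, d⟩ := h (g⁻¹ * v * g⁻¹⁻¹) (by simpa only [cj_symm rfl] using cj_comm g⁻¹ v1)
    (by rw [← k2]; exact cj_comm _ v3)
  refine fun z => E2.sq12 W (i ?_) (i ?_) V (i ?_) (i ?_) <;> simp only [map_mul, c, d]
  · rw [conj_mul, w2, k2]
  · rw [← k3]; exact cj_comm _ w3
  · rw [conj_mul, v2, k3]
  · rw [conj_mul, conj_mul, z]; simp

/-- the conjugate by `y` of an element centralising the group of order 8 -/
theorem iota {f : G} (h1 : f * (a * a) = a * a * f) (h2 : f * (b * b) = b * b * f)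
    (h3 : f * (a * s) = a * s * f) (h4 : f * e * f⁻¹ = e * (b * b)) :
    y * f * y⁻¹ * (a * a) = a * a * (y * f * y⁻¹) ∧ y * f * y⁻¹ * (b * b) = b * b * (y * f * y⁻¹) ∧
    y * f * y⁻¹ * e * (y * f * y⁻¹)⁻¹ = e * (a * s) := by
  obtain ⟨φ, i, rfl, rfl, rfl, rfl, rfl, rfl, h⟩ := F.mod2
  simp only [← map_mul] at h1 h2 h3 h4 ⊢
  have k : ∀ {w w' v v'}, Act φ f w w' → E2.y * w * E2.y⁻¹ = v ∧ E2.y * w' * E2.y⁻¹ = v' →
      Act φ (φ E2.y * f * (φ E2.y)⁻¹) v v' := fun h c => by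
    rw [mul_assoc]
    exact ((Act.of_cj φ c.1).symm.trans h).trans (Act.of_cj φ c.2)
  have h1 := act_of_comm h1
  have h2 := act_of_comm h2
  have h3 := act_of_comm h3
  exact ⟨(k h1 (by decide +kernel)).fix, (k ((h1.mul h2).mul h3) (by decide +kernel)).fix,
    k h4 (by decide +kernel)⟩

variable {p q : G} {μ κ : ℕ} (P : PQ e a b s u x y p q μ κ)
include P

theorem memR {K : Subgroup G} (he : e ∈ K) (ha : a ∈ K) (hb : b ∈ K) (hs : s ∈ K) (hp : p ∈ K)
    (hq : q ∈ K) (p1 : p * (a * a) = a * a * p) (p2 : p * (b * b) = b * b * p)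
    (q1 : q * (a * a) = a * a * q) (q2 : q * (b * b) = b * b * q) {g : G}
    (h2 : g * (a * a) = a * a * g) (h3 : g * (b * b) = b * b * g)
    (h1 : g * e * g⁻¹ = e ∨ g * e * g⁻¹ = e * (a * a) ∨ g * e * g⁻¹ = e * (b * b) ∨
      g * e * g⁻¹ = e * (a * a * (b * b))) : g ∈ K := by
  have k : ∀ r ∈ K, r * (a * a) = a * a * r → r * (b * b) = b * b * r → r * e * r⁻¹ = g * e * g⁻¹ →
      g ∈ K := fun r hr c1 c2 c3 => (mul_mem_cancel_left (inv_mem hr)).1 (F.memD he ha hb hs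
    (cj_iff.1 (cj_trans rfl (cj_symm c3))) (mul_comm' (inv_comm c1) h2) (mul_comm' (inv_comm c2) h3))
  rcases h1 with c | c | c | c
  · exact k 1 (one_mem _) (by simp) (by simp) (by simp [c])
  · exact k p hp p1 p2 (P.pe.trans c.symm)
  · exact k q hq q1 q2 (P.qe.trans c.symm)
  · exact k (p * q) (mul_mem hp hq) (mul_comm' p1 q1) (mul_comm' p2 q2) (cj_trans P.qe (by
      rw [← conj_mul, P.pe, cj_iff.2 p2, c, mul_assoc]))

end Fr

theorem not01 {e a b s u x y p q : G} (F : Fr e a b s u x y) (P : PQ e a b s u x y p q 0 1) :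
    False := by
  obtain ⟨r0, r1, r2, r3, r4, r5, -, -, -, -, r6, r7, r8, r9, -⟩ := F.r2
  obtain ⟨φ, rfl, rfl, rfl, rfl, rfl, rfl⟩ := R01.model ⟨r0, r1, r2, r3, r4, r5, r6, r7, r8, r9,
    P.pe, P.ps, by simpa only [pow_zero, mul_one] using P.pa,
    by simpa only [pow_zero, mul_one] using P.pb, by simpa only [pow_one] using P.pp, P.qe, P.qs,
    by simpa only [pow_zero, mul_one] using P.qa, by simpa only [pow_zero, mul_one] using P.qb,
    by simpa only [pow_one] using P.qq, P.pq⟩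
  open R01 in
  have i : Function.Injective φ := inj_of' (L := [e, a, b, s, p, q])
    (P := fun w => w = a * a ∨ w = b * b ∨ w = a * a * (b * b)) (by decide +kernel) (by
      rintro _ (rfl | rfl | rfl) <;> simp only [map_mul]
      exacts [F.ne4.1, F.ne4.2.1, F.ne4.2.2])
  open R01 in
  obtain ⟨-, -, k⟩ := F.iota (f := φ q) (by simp only [← map_mul]; exact congrArg φ (by decide +kernel))
    (by simp only [← map_mul]; exact congrArg φ (by decide +kernel))
    (by simp only [← map_mul]; exact congrArg φ (by decide +kernel)) P.qe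
  open R01 in
  have D : let L := sp (e * (a * s)) (sp (a * p) (sp (b * q) (sp (a * a) [1, b * b])))
      L.Nodup ∧ ∀ w ∈ L, w * w = 1 ∧ w * (e * (a * s)) = e * (a * s) * w ∧ ∀ v ∈ L, w * v = v * w := by
    decide +kernel
  refine F.rank5 ⟨_, k⟩ (D.1.map i) (by simp [sp]) fun w hw => ?_
  obtain ⟨w, hw', rfl⟩ := List.mem_map.1 hw
  obtain ⟨d1, d2, d3⟩ := D.2 w hw'
  refine ⟨by rw [← map_mul, d1, map_one], by simp only [← map_mul, d2], fun v hv => ?_⟩
  obtain ⟨v, hv', rfl⟩ := List.mem_map.1 hv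
  simp only [← map_mul, d3 v hv']

theorem not10 {e a b s u x y p q : G} (F : Fr e a b s u x y) (P : PQ e a b s u x y p q 1 0) :
    False := by
  obtain ⟨r0, r1, r2, r3, r4, r5, -, -, -, -, r6, r7, r8, r9, -⟩ := F.r2
  obtain ⟨φ, rfl, rfl, rfl, rfl, rfl, rfl⟩ := R10.model ⟨r0, r1, r2, r3, r4, r5, r6, r7, r8, r9,
    P.pe, P.ps, by simpa only [pow_one] using P.pa,
    by simpa only [pow_one] using P.pb, by simpa only [pow_zero] using P.pp, P.qe, P.qs,
    by simpa only [pow_one] using P.qa, by simpa only [pow_one] using P.qb,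
    by simpa only [pow_zero] using P.qq, P.pq⟩
  open R10 in
  obtain ⟨k1, k2, k⟩ := F.iota (f := φ (q * b * a))
    (by simp only [← map_mul]; exact congrArg φ (by decide +kernel))
    (by simp only [← map_mul]; exact congrArg φ (by decide +kernel))
    (by simp only [← map_mul]; exact congrArg φ (by decide +kernel))
    (by simp only [← map_mul, ← map_inv]; exact congrArg φ (by decide +kernel))
  open R10 in
  refine F.sq12 k1 k2 (w := φ (p * e)) (v := φ (q * a)) ?_ ?_ ?_ ?_ ?_ ?_ ?_ <;> (try rw [k]) <;>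
    simp only [← map_mul] <;> (try rw [← map_one φ]) <;> exact congrArg φ (by decide +kernel)

end H30.CM
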