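import Mathlib
import Cfsg.Agent.Base
import Cfsg.Agent.Lib.Co3M.Kill
import Cfsg.Agent.Lib.Co3M.P13

/-!
# The centraliser of the four-group lies in the group of order 9216 (helper47, plan by helper30)
-/

set_option autoImplicit false
set_option maxRecDepth 100000
set_option linter.unusedSectionVars false

namespace H30.CM

open Subgroup H69 Cfsg H70.TM

namespace C2

theorem sp_mem {H : Type*} [Group H] {K : Subgroup H} {w : H} {N : List H} (hw : w ∈ K)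
    (hN : ∀ x ∈ N, x ∈ K) : ∀ x ∈ sp w N, x ∈ K := fun x hx => by
  rcases List.mem_append.1 hx with h | h
  · exact hN x h
  · obtain ⟨z, hz, rfl⟩ := List.mem_map.1 h
    exact mul_mem hw (hN z hz)

open E2 in
theorem cW : ∀ W : E2.E, W * (s * b * a) = s * b * a * W →
    W * W = 1 ∧ W ∈ sp e (sp (a * a) (sp (b * b) [1, s * b * a])) := by decide +kernel

open P

/-- the four-group -/
def inV (r : R11.E) : Prop := r.val = 0 ∨ r.val = 12 ∨ r.val = 17 ∨ r.val = 153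

instance (r : R11.E) : Decidable (inV r) := by unfold inV; infer_instance

/-- the class of `e` -/
def inO (r : R11.E) : Prop :=
  Nat.testBit 0xffc000040010b0000200004004020089c84b36f7025d15ac4106656a090e12 r.val = true

instance (r : R11.E) : Decidable (inO r) := by unfold inO; infer_instance

/-- the elements of the complement centralising `v` -/
def inK (k : K36.E) : Prop := α.act k v.r = v.r

noncomputable instance (k : K36.E) : Decidable (inK k) := by unfold inK; infer_instance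

noncomputable def V0 : Subgroup R11.E := El.sub inV (by decide +kernel)

/-- conjugating elements -/
def TAB : ℕ := 0x1d410a530a000a290a4f191a19000d000d1f0c42000000000000000000000000000000000000000000000000000000000c000000190000000cdc01d3179f17bd1731000004e000000000000000001700000000001934018200001a71000004be06de1ad60670001c000000000000000003e100000000030000000350000000000000000000000000000000001100000000030000000000000000000000000000000000000000000000000000000600000000173100000ae300000a0000000000000000000000000000000e00000000000000000000000000000000001a3e0000000003eb00000000000000000000000007040000000000001ad60000000007e4112d1d35000000000ee0000000000000000007d4000000000700000017001ded0000000003010b60000004021b27000003000b5f1b7403eb00000b00186d1b00000000000400000000000c370da90000000019f00dd2046c035718b800000d4500000d1f00000c140000040000000be91804000019bb0d0004be18000d43000000000c0f000000001a00000000001b7c000019ce000004240c14060001001ab9000006ec0006000019bb01380000000500000e5b176b00001a0000001132000000000a53000000001a920ae600000ecf0000000200000000172f11031d0000000000000000000c000000000000000000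

noncomputable def cjt (r : R11.E) : E :=
  ⟨El.of R11.tb (Nat.land (Nat.shiftRight TAB (Nat.mul 16 r.val)) 255),
    El.of K36.tb (Nat.land (Nat.shiftRight TAB (Nat.add (Nat.mul 16 r.val) 8)) 255)⟩

theorem fV : ∀ r, inV r → (inl α r = 1 ∨ inl α r = t ∨ inl α r = v ∨ inl α r = t * v) ∧
    ∃ g : R11.E, r = g * g := by decide +kernel

theorem fO : ∀ r, inO r → cjt r * v = v * cjt r ∧ cjt r * e * (cjt r)⁻¹ = inl α r := by
  decide +kernel

theorem fa : ∀ r, inl α r * inl α r = 1 → inV r ∨ inO r ∨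
    cjt r * (a * s) * (cjt r)⁻¹ = inl α r := by decide +kernel

theorem fcomm : ∀ r m : R11.E, inV (r * m * r⁻¹ * m⁻¹) := by decide +kernel

theorem fcv : ∀ r, inl α r * v = v * inl α r := by decide +kernel

theorem fK : ∀ Z : E, Z * v = v * Z → inK Z.k := by decide +kernel

theorem fb1 : ∀ k : K36.E, inK k → k ≠ 1 → k * k = 1 →
    ∃ l, inr α l * v = v * inr α l ∧ l * k * l⁻¹ = K36.n := by decide +kernel

theorem fb2 : ∀ r : R11.E, inV (r * α.act K36.n r) →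
    ∃ m, inl α m * i * (inl α m)⁻¹ = ⟨r, K36.n⟩ := by decide +kernel

theorem fUV : ∀ k, inK k → ∀ u₁, inV (α.act k R11.e * R11.s * u₁⁻¹) → inV (α.act k u₁ * u₁⁻¹) →
    inO u₁ ∨ ∀ u₀, inV (α.act k u₀ * u₀⁻¹) → inV u₀ ∨ inO u₀ ∨ inO (u₀ * u₁) := by decide +kernel

theorem fn : ∀ k, inK k → inV (α.act k R11.e * (R11.a * R11.s * R11.e)) → k = K36.n := by
  decide +kernel

theorem fx : inO R11.s ∧ inO (R11.a * R11.s * R11.e) ∧ K36.n * K36.n = 1 ∧ inV 1 ∧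
    i * i = 1 ∧ a * v = v * a ∧ a * e = e * a := by decide +kernel

theorem cj_inl (Z : E) (m : R11.E) :
    Z * inl α m * Z⁻¹ = inl α (Z.r * α.act Z.k m * Z.r⁻¹) :=
  SE.ext (show Z.r * α.act Z.k m * α.act (Z.k * 1) (α.act Z.k⁻¹ Z.r⁻¹) = _ by
    rw [mul_one, ← α.mul, mul_inv_cancel, α.one]; rfl)
    (show Z.k * 1 * Z.k⁻¹ = 1 by rw [mul_one, mul_inv_cancel])

theorem red {r m u : R11.E} (h : inV (r * m * r⁻¹ * u)) : inV (m * u) := by
  have : (r * m * r⁻¹ * m⁻¹)⁻¹ * (r * m * r⁻¹ * u) ∈ V0 :=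
    mul_mem (inv_mem (show _ ∈ V0 from fcomm r m)) h
  rwa [show (r * m * r⁻¹ * m⁻¹)⁻¹ * (r * m * r⁻¹ * u) = m * u by group] at this

theorem cls2 {Z : E} (h : Z.k = K36.n) (h2 : inV (Z * Z).r) : ∃ m, inl α m * i * (inl α m)⁻¹ = Z := by
  obtain ⟨r, k⟩ := Z
  obtain rfl : k = K36.n := h
  exact fb2 r h2

theorem cls {Z : E} (h : Z * v = v * Z) (h1 : Z.k ≠ 1) (h2 : Z * Z = 1) :
    ∃ k, k * v = v * k ∧ k * i * k⁻¹ = Z := by
  obtain ⟨l, l1, l2⟩ := fb1 Z.k (fK Z h) h1 (congrArg SE.k h2)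
  obtain ⟨m, hm⟩ := cls2 (Z := inr α l * Z * (inr α l)⁻¹) l2 (by rw [cj_sq _ h2]; exact fx.2.2.2.1)
  exact ⟨_, mul_comm' (inv_comm l1) (fcv m), cj_trans hm (cj_symm rfl)⟩

variable {G : Type*} [Group G] [Finite G] {φ : E →* G} {x y : G}

/-- the centraliser of the four-group -/
def Cv (φ : E →* G) : Subgroup G := 𝐂₀(φ t) ⊓ 𝐂₀(φ v)

/-- the normal subgroup of order 256 -/
noncomputable def Rr (φ : E →* G) : Subgroup G := (φ.comp (inl α)).range

/-- the four-group -/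
noncomputable def Vv (φ : E →* G) : Subgroup G := V0.map (φ.comp (inl α))

theorem mem_Cv {k : E} (h : k * v = v * k) : φ k ∈ Cv φ :=
  ⟨mem_c.2 (by rw [← map_mul, ← map_mul, cen_t]), mem_c.2 (by rw [← map_mul, ← map_mul, h])⟩

theorem R_le : Rr φ ≤ Cv φ := by
  rintro _ ⟨r, rfl⟩
  exact mem_Cv (fcv r)

theorem R_le' : Rr φ ≤ φ.range := by
  rintro _ ⟨r, rfl⟩
  exact ⟨_, rfl⟩

theorem mr (k : E) : φ k ∈ φ.range := ⟨k, rfl⟩

theorem e_mem : φ e ∈ Rr φ := ⟨R11.e, rfl⟩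

theorem V_le : Vv φ ≤ Rr φ := map_le_range _ _

theorem cV {h m : G} (hh : h ∈ Cv φ) (hm : m ∈ Vv φ) : h * m * h⁻¹ = m := by
  obtain ⟨r, hr, rfl⟩ := hm
  have h1 := mem_c.1 hh.1
  have h2 := mem_c.1 hh.2
  rw [cj_iff, MonoidHom.comp_apply]
  rcases (fV r hr).1 with d | d | d | d <;> rw [d]
  · simp
  · exact h1
  · exact h2
  · rw [map_mul]; exact comm_mul h1 h2

theorem R_cj {h m : G} (hh : h ∈ φ.range) (hm : m ∈ Rr φ) : h * m * h⁻¹ ∈ Rr φ := by
  obtain ⟨Z, rfl⟩ := hh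
  obtain ⟨r, rfl⟩ := hm
  exact ⟨_, ((Act.self φ Z _).to (cj_inl Z r)).eq.symm⟩

theorem R_comm {h m : G} (hh : h ∈ Rr φ) (hm : m ∈ Rr φ) : h * m * h⁻¹ * m⁻¹ ∈ Vv φ := by
  obtain ⟨r, rfl⟩ := hh
  obtain ⟨r', rfl⟩ := hm
  exact ⟨_, fcomm r r', by simp only [map_mul, map_inv]⟩

/-- the elements acting trivially on `U` modulo the four-group -/
noncomputable def KU (φ : E →* G) (U : Subgroup G) : Subgroup G where
  carrier := {h | h ∈ Cv φ ∧ ∀ m ∈ U, h * m * h⁻¹ * m⁻¹ ∈ Vv φ}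
  one_mem' := ⟨one_mem _, fun m _ => by simp⟩
  mul_mem' {h k} a b := ⟨mul_mem a.1 b.1, fun m hm => by
    have := mul_mem (b.2 m hm) (a.2 m hm)
    rw [← cV a.1 (b.2 m hm)] at this
    convert this using 1
    group⟩
  inv_mem' {h} a := ⟨inv_mem a.1, fun m hm => by
    have := inv_mem (a.2 m hm)
    rw [← cV (inv_mem a.1) this] at this
    convert this using 1
    group⟩

variable (C : CA φ x y)
include C

theorem of_mem {k : E} (h : φ k ∈ Cv φ) : k * v = v * k :=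
  C.inj (by rw [map_mul, map_mul]; exact mem_c.1 h.2)

theorem of_V {r : R11.E} (h : φ (inl α r) ∈ Vv φ) : inV r := by
  obtain ⟨r', hr, d⟩ := h
  obtain rfl : r' = r := congrArg SE.r (C.inj d)
  exact hr

theorem F0 {h : G} (hh : h ∈ Cv φ) (he : h * φ e = φ e * h) : h ∈ φ.range :=
  C.fr.memD (K := φ.range) ⟨_, rfl⟩ ⟨_, rfl⟩ ⟨_, rfl⟩ ⟨_, rfl⟩ he
    (by rw [← map_mul, ← defs.1]; exact mem_c.1 hh.1)
    (by rw [← map_mul, ← defs.2.1]; exact mem_c.1 hh.2)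

theorem F1 {h : G} (hh : h ∈ Cv φ) (he : h * φ e * h⁻¹ ∈ Rr φ) : h ∈ φ.range := by
  obtain ⟨r, he⟩ := he
  have he : h * φ e * h⁻¹ = φ (inl α r) := he.symm
  have c : Cj (φ e) (φ (inl α r)) := ⟨h, he⟩
  rcases fa r (C.inj (by rw [map_mul, map_one]; exact c.sq C.fr.ee)) with d | d | d
  · obtain ⟨g, rfl⟩ := (fV r d).2
    rw [map_mul, map_mul] at c
    exact absurd c C.fr.not_cj
  · obtain ⟨k1, k2⟩ := fO r d
    exact (mul_mem_cancel_left (inv_mem (mr _))).1 (F0 C (mul_mem (inv_mem (mem_Cv k1)) hh)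
      (cj_iff.1 (cj_trans he (Act.of_cj φ k2).symm.eq)))
  · exact absurd ((c.trans (Act.of_cj φ d).cj.symm).trans
      (act_w C.yJ 0x5 (u := v) (by decide +kernel)).cj.symm) C.not_cj.2

theorem cen_i {g : G} (hg : g ∈ Cv φ) (hi : g * φ i = φ i * g) : g * g = 1 ∧ g ∈ φ.range := by
  obtain ⟨χ, ci, k1, k2, k3, k4, -, -, k⟩ := C.fr.mod2
  have a1 : Act φ (y * φ (b * q * p * s * d)) e i := (Act.of_cj φ (by decide +kernel)).trans C.yf
  have a2 : Act φ (y * φ (b * q * p * s * d)) t t := (Act.of_cj φ (by decide +kernel)).trans C.yt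
  have a3 : Act φ (y * φ (b * q * p * s * d)) v (a * s) :=
    (Act.of_cj φ (by decide +kernel)).trans (act_w C.yJ 0x5 (u := v) (by decide +kernel))
  have a4 : Act φ (y * φ (b * q * p * s * d)) (s * b * a) v :=
    (Act.of_cj φ (by decide +kernel)).trans
      (act_w C.yJ 0x45432 (u := a * s * u * v * u) (by decide +kernel))
  generalize y * φ (b * q * p * s * d) = m at a1 a2 a3 a4
  have cm : ∀ {p q}, Act φ m p q → g * φ q = φ q * g →
      m⁻¹ * g * m⁻¹⁻¹ * φ p = φ p * (m⁻¹ * g * m⁻¹⁻¹) := fun h c => by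
    rw [← h.symm.eq]; exact cj_comm _ c
  obtain ⟨W, hW⟩ := k (m⁻¹ * g * m⁻¹⁻¹) (cm a1 hi)
    (by rw [← map_mul, ← defs.1]; exact cm a2 (mem_c.1 hg.1))
  have k5 : χ (E2.s * E2.b * E2.a) = φ (s * b * a) := by simp only [map_mul, k2, k3, k4]
  obtain ⟨w1, w2⟩ := cW W (ci (by rw [map_mul, map_mul _ _ W, hW, k5]; exact cm a4 (mem_c.1 hg.2)))
  have gm : m * χ W * m⁻¹ = g := by rw [hW]; group
  have mm : ∀ {p q w}, Act φ m p q → χ w = φ p →
      w ∈ (φ.range.comap (MulAut.conj m).toMonoidHom).comap χ := fun {p q w} h c =>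
    show m * χ w * m⁻¹ ∈ φ.range from c ▸ ⟨q, h.eq.symm⟩
  refine ⟨by rw [← gm]; exact cj_sq _ (by rw [← map_mul, w1, map_one]), ?_⟩
  rw [← gm]
  exact sp_mem (mm a1 k1) (sp_mem (mm a2 (by rw [defs.1, map_mul, map_mul, k2]))
    (sp_mem (mm a3 (by rw [defs.2.1, map_mul, map_mul, k3])) (List.forall_mem_cons.2
      ⟨one_mem _, List.forall_mem_cons.2 ⟨mm a4 k5, fun _ h => absurd h List.not_mem_nil⟩⟩))) W w2

theorem F2 {h : G} (hh : h ∈ Cv φ) (he : h * φ e * h⁻¹ ∈ φ.range) : h * φ e * h⁻¹ ∈ Rr φ := by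
  obtain ⟨Z, he⟩ := he
  by_cases c : Z.k = 1
  · exact ⟨Z.r, he ▸ congrArg φ (eq_inl c).symm⟩
  obtain ⟨k, k1, k2⟩ := cls (of_mem C (he ▸ mul_mem (mul_mem hh (R_le e_mem)) (inv_mem hh))) c
    (C.inj (by rw [map_mul, map_one, he]; exact cj_sq _ C.fr.ee))
  have m1 := mul_mem (inv_mem (mem_Cv (φ := φ) k1)) hh
  have m2 := cj_trans he.symm (Act.of_cj φ k2).symm.eq
  generalize (φ k)⁻¹ * h = m at m1 m2
  have := (cen_i C (mul_mem (mul_mem m1 (mem_Cv fx.2.2.2.2.2.1)) (inv_mem m1)) (by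
    rw [← m2]; exact cj_comm m (by rw [← map_mul, ← map_mul, fx.2.2.2.2.2.2]))).1
  rw [conj_mul, conj_eq_one_iff] at this
  exact absurd this C.fr.ne

theorem memR {z h h' : G} (hz : z ∈ Cv φ) (hh : h ∈ Cv φ) (hh' : h' ∈ Cv φ)
    (hx : h * φ e * h⁻¹ ∈ Rr φ) (z2 : z * z ∈ Rr φ)
    (e2 : z * (h * φ e * h⁻¹) * z⁻¹ = z * z * (h * φ e * h⁻¹))
    (e3 : z * (h * φ e * h⁻¹) = h' * φ e * h'⁻¹) : z ∈ Rr φ := by
  have h1 : z ∈ φ.range := (mul_mem_cancel_right (F1 C hh hx)).1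
    (F1 C (mul_mem hz hh) (cj_trans rfl e2 ▸ mul_mem z2 hx))
  exact (mul_mem_cancel_right hx).1 (e3 ▸ F2 C hh' (e3 ▸ mul_mem h1 (R_le' hx)))

theorem main {g : G} (hg : g ∈ Cv φ) : g ∈ φ.range := by
  by_contra ng
  obtain ⟨U, mU⟩ : ∃ U : Subgroup G, ∀ {m}, m ∈ U ↔ m ∈ Rr φ ∧ g⁻¹ * m * g⁻¹⁻¹ ∈ Rr φ :=
    ⟨Rr φ ⊓ (Rr φ).comap (MulAut.conj g⁻¹).toMonoidHom, Iff.rfl⟩
  have VU : Vv φ ≤ U := fun m hm => mU.2 ⟨V_le hm, by rw [cV (inv_mem hg) hm]; exact V_le hm⟩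
  have U0 : ∀ h ∈ Cv φ, h * φ e * h⁻¹ ∉ U := fun h hh c => ng (inv_mem_iff.1
    ((mul_mem_cancel_right (F1 C hh (mU.1 c).1)).1
      (F1 C (mul_mem (inv_mem hg) hh) (by rw [cj_trans (g := h) (k := g⁻¹) rfl rfl]; exact (mU.1 c).2))))
  have U1 : ∀ r, φ (inl α r) ∈ U → ¬ inO r := fun r c d =>
    U0 _ (mem_Cv (fO r d).1) ((Act.of_cj φ (fO r d).2).eq ▸ c)
  have RK : Rr φ ≤ KU φ U := fun h hh => ⟨R_le hh, fun m hm => R_comm hh (mU.1 hm).1⟩
  have yC := mul_mem (mul_mem hg (R_le (φ := φ) e_mem)) (inv_mem hg)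
  have yK : g * φ e * g⁻¹ ∈ KU φ U := ⟨yC, fun m hm => by
    have := R_comm e_mem (mU.1 hm).2
    rw [← cV hg this] at this
    convert this using 1
    group⟩
  have D : ∀ k ∈ Cv φ, k * φ e * k⁻¹ ∈ Rr φ → ∃ w ∈ KU φ U, w * w = 1 ∧
      w * (k * φ e * k⁻¹) * w⁻¹ * (g * φ e * g⁻¹) ∈ U := fun k hk hx => by
    rcases dih (cj_sq k C.fr.ee) (cj_sq g C.fr.ee) U with ⟨w, w1, w2⟩ |
      ⟨z, z1, z2, z3, z4, z5, ⟨g1, a1, b1⟩, g2, a2, b2⟩
    · exact ⟨w, w1 _ (RK hx) yK, w2⟩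
    have zC := z1 _ (R_le hx) yC
    have a1 := a1 _ (R_le hx) yC
    have a2 := a2 _ (R_le hx) yC
    have cc : ∀ {g' u}, g' ∈ Cv φ → u = g' * (k * φ e * k⁻¹) * g'⁻¹ ∨
        u = g' * (g * φ e * g⁻¹) * g'⁻¹ → ∃ h ∈ Cv φ, u = h * φ e * h⁻¹ := fun a b =>
      b.elim (fun b => ⟨_, mul_mem a hk, (cj_trans rfl b.symm).symm⟩)
        fun b => ⟨_, mul_mem a hg, (cj_trans rfl b.symm).symm⟩
    obtain ⟨h1, c1, d1⟩ := cc a1 b1
    obtain ⟨h2, c2, d2⟩ := cc a2 b2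
    refine absurd (mU.2 ⟨memR C zC hk c1 hx (mU.1 z3).1 z4 d1, memR C (h := 1) (h' := g⁻¹ * h2)
      (mul_mem (mul_mem (inv_mem hg) zC) (inv_mem (inv_mem hg))) (one_mem _)
      (mul_mem (inv_mem hg) c2) (by simpa using e_mem) (by rw [conj_mul]; exact (mU.1 z3).2) ?_ ?_⟩) z2
    · calc _ = g⁻¹ * (z * (g * φ e * g⁻¹) * z⁻¹) * g := by group
        _ = _ := by rw [z5]; group
    · calc _ = g⁻¹ * (z * (g * φ e * g⁻¹)) * g := by group
        _ = _ := by rw [d2]; group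
  obtain ⟨w, wK, w2, wU⟩ := D 1 (one_mem _) (by simpa using e_mem)
  rw [one_mul, inv_one, mul_one] at wU
  have wi : w⁻¹ = w := inv_eq_of_mul_eq_one_right w2
  have D2 : ∀ r, inO r → ∃ Z : E, φ Z ∈ KU φ U ∧ w * φ Z * w⁻¹ = (φ Z)⁻¹ ∧
      φ (inl α (Z.r * α.act Z.k R11.e * Z.r⁻¹ * r)) ∈ U := fun r hr => by
    have k := (Act.of_cj φ (fO r hr).2).eq
    obtain ⟨w', wK', w2', wU'⟩ := D _ (mem_Cv (fO r hr).1) ⟨r, k.symm⟩
    have r2 := cj_sq (φ (cjt r)) C.fr.ee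
    rw [k] at wU' r2
    have wi' : w'⁻¹ = w' := inv_eq_of_mul_eq_one_right w2'
    have m := mul_mem wU (inv_mem wU')
    have m' := mul_mem (VU (wK'.2 _ m)) m
    have m'' : w' * w * φ e * (w' * w)⁻¹ * φ (inl α r) ∈ U := by
      convert m' using 1
      nth_rewrite 1 [← inv_eq_of_mul_eq_one_right r2]
      calc _ = w' * w * φ e * w⁻¹ * w'⁻¹ * (φ (inl α r))⁻¹ * (w' * w')⁻¹ := by rw [w2']; group
        _ = w' * w * φ e * w⁻¹ * w' * (φ (inl α r))⁻¹ * (w' * w')⁻¹ := by rw [wi']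
        _ = _ := by group
    obtain ⟨Z, hZ⟩ := F1 C (mul_mem wK' wK).1
      ((mul_mem_cancel_right (show _ ∈ Rr φ from ⟨r, rfl⟩)).1 (mU.1 m'').1)
    refine ⟨Z, hZ ▸ mul_mem wK' wK, by rw [hZ, mul_inv_rev, wi', wi, ← mul_assoc, mul_assoc, w2, mul_one], ?_⟩
    rwa [map_mul, ← cj_inl, map_mul, map_mul, map_mul, map_inv, hZ]
  have UV : U ≤ Vv φ := fun m hm => by
    obtain ⟨r, rfl⟩ := (mU.1 hm).1
    obtain ⟨Z, z1, -, z3⟩ := D2 _ fx.1
    have k : ∀ u, φ (inl α u) ∈ U → inV (α.act Z.k u * u⁻¹) := fun u hu => red (r := Z.r) (of_V C (by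
      rw [map_mul, ← cj_inl, map_inv, map_mul, map_mul, map_mul, map_inv, map_inv]
      exact z1.2 _ hu))
    rcases fUV Z.k (fK Z (of_mem C z1.1)) _ (by
      rw [mul_assoc]; exact red (r := Z.r) (by rw [← mul_assoc, mul_inv_cancel]; exact fx.2.2.2.1))
      (k _ z3) with d | d
    · exact absurd d (U1 _ z3)
    rcases d r (k r hm) with d | d | d
    · exact ⟨r, d, rfl⟩
    · exact absurd d (U1 _ hm)
    · exact absurd d (U1 _ (by rw [map_mul, map_mul]; exact mul_mem hm z3))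
  obtain ⟨Z, z1, z2, z3⟩ := D2 _ fx.2.1
  have zk := fn Z.k (fK Z (of_mem C z1.1)) (red (of_V C (UV z3)))
  have zz : Z * Z = inl α (Z * Z).r := eq_inl (show Z.k * Z.k = 1 by rw [zk]; exact fx.2.2.1)
  have zR : φ (Z * Z) ∈ Rr φ := ⟨_, congrArg φ zz.symm⟩
  have gw : g⁻¹ * w ∈ φ.range := F1 C (mul_mem (inv_mem hg) wK.1) (by
    have := mul_mem (mU.1 wU).2 (inv_mem e_mem)
    convert this using 1
    group)
  have zU : φ (Z * Z) ∈ U := mU.2 ⟨zR, by
    have := R_cj gw (inv_mem zR)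
    convert this using 1
    have k : φ (Z * Z) = w * (φ (Z * Z))⁻¹ * w⁻¹ := by
      rw [← conj_inv, map_mul, ← conj_mul, z2, mul_inv_rev, inv_inv]
    nth_rewrite 1 [k]
    group⟩
  obtain ⟨m, hm⟩ := cls2 zk (of_V C (UV (zz ▸ zU)))
  have z4 : φ Z * φ Z = 1 := by rw [← map_mul, ← hm, cj_sq _ fx.2.2.2.2.1, map_one]
  rw [inv_eq_of_mul_eq_one_right z4] at z2
  have mC := mem_Cv (φ := φ) (fcv m)
  have := (cen_i C (mul_mem (mul_mem (inv_mem mC) wK.1) (inv_mem (inv_mem mC))) (by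
    rw [← (Act.of_cj φ hm).symm.eq]; exact cj_comm _ (cj_iff.1 z2))).2
  exact ng (inv_mem_iff.1 ((mul_mem_cancel_right ((mul_mem_cancel_left (inv_mem (mr _))).1
    ((mul_mem_cancel_right (inv_mem (inv_mem (mr _)))).1 this))).1 gw))

end C2

open P in
theorem CA.cv {G : Type*} [Group G] [Finite G] {φ : E →* G} {x y : G} (C : CA φ x y) {g : G}
    (h1 : g * φ t = φ t * g) (h2 : g * φ v = φ v * g) : g ∈ φ.range :=
  C2.main C ⟨mem_c.2 h1, mem_c.2 h2⟩

theorem eqns_CMC2 : True := by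
  have := @C2.inV.eq_1
  have := @C2.inO.eq_1
  have := @C2.inK.eq_1
  trivial

end H30.CM
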