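import Mathlib
import Cfsg.Agent.Base
import Cfsg.Agent.Lib.Co3M.Kill
import Cfsg.Agent.Lib.Co3M.P13
import Cfsg.Agent.Lib.Co3M.CAa

/-!
# The centraliser `2 × M₁₂`: construction of the group of order 9216 (helper30)
-/

set_option autoImplicit false
set_option maxRecDepth 100000
set_option linter.unusedSectionVars false

namespace H30.CM

open Subgroup H69 Cfsg H70.TM R11

open H1

variable {G : Type*} [Group G] [Finite G]

theorem act_ap {ψ : E →* G} {g : G} {l : List E} (h : List.Forall₂ (Act ψ g) [e, a, b, s, p, q] l)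
    (w : E) : Act ψ g w (ap l w) := (act_evw h _).of_eq ⟨ap_id w, rfl⟩

/-- the frame with the group of order 256 -/
structure Pre (ψ : E →* G) (u x y : G) : Prop where
  fr : Fr (ψ e) (ψ a) (ψ b) (ψ s) u x y
  up : Act ψ u p p
  uq : Act ψ u q (q⁻¹ * p⁻¹)
  xp : Act ψ x p q
  xq : Act ψ x q (q⁻¹ * p⁻¹)
  yp : y * ψ p * y⁻¹ = ψ (p * s) * u

namespace Pre
variable {ψ : E →* G} {u x y : G} (F : Pre ψ u x y)
include F

theorem inj : Function.Injective ψ := inj_of' (L := [e, a, b, s, p, q])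
  (P := fun w => w = a * a ∨ w = b * b ∨ w = a * a * (b * b)) (by decide +kernel) (by
    rintro _ (rfl | rfl | rfl) <;> simp only [map_mul]
    exacts [F.fr.ne4.1, F.fr.ne4.2.1, F.fr.ne4.2.2])

theorem uu : u * u = 1 := F.fr.r2.2.2.2.2.2.2.1

theorem ui : u⁻¹ = u := inv_eq_of_mul_eq_one_right F.uu

theorem au : List.Forall₂ (Act ψ u) [e, a, b, s, p, q] [e, a, a⁻¹ * b⁻¹, s, p, q⁻¹ * p⁻¹] := by
  obtain ⟨-, -, -, -, -, -, -, k1, k2, k3, -, -, -, -, k4, -⟩ := F.fr.r2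
  refine .cons (act_of_comm k4.symm) (.cons ?_ (.cons ?_ (.cons (act_of_comm k3)
    (.cons F.up (.cons F.uq .nil)))))
  · rwa [Act, F.ui]
  · rwa [Act, F.ui, map_mul, map_inv, map_inv]

theorem ax : List.Forall₂ (Act ψ x) [e, a, b, s, p, q] [e, b, a⁻¹ * b⁻¹, s, q, q⁻¹ * p⁻¹] :=
  .cons (act_of_comm F.fr.xe) (.cons F.fr.xa (.cons (by
    simpa only [Act, map_mul, map_inv] using F.fr.xb) (.cons (act_of_comm F.fr.xs)
    (.cons F.xp (.cons F.xq .nil)))))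

theorem ax' (r : E) : Act ψ x r (gx r) := (act_ap F.ax r).to (maps r).2.1

theorem aX (r : E) : Act ψ x⁻¹ r (gX r) := ((F.ax' _).to (maps r).2.2).symm

theorem memR {g : G} {z : E} (h1 : Act ψ g (a * a) (a * a)) (h2 : Act ψ g (b * b) (b * b))
    (h3 : Act ψ g e (e * z)) (hz : z ∈ [1, a * a, b * b, a * a * (b * b)]) : g ∈ ψ.range := by
  obtain ⟨r, -, c1, c2, c3⟩ := vee z hz
  refine (mul_mem_cancel_left (inv_mem (show ψ r ∈ ψ.range from ⟨r, rfl⟩))).1 (F.fr.memD (K := ψ.range) ⟨_, rfl⟩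
    ⟨_, rfl⟩ ⟨_, rfl⟩ ⟨_, rfl⟩ (h3.trans (Act.of_cj ψ c1).symm).fix ?_ ?_) <;> rw [← map_mul]
  exacts [(h1.trans (Act.of_cj ψ (cj_iff.2 c2)).symm).fix,
    (h2.trans (Act.of_cj ψ (cj_iff.2 c3)).symm).fix]

theorem cenR {g : G} (h : ∀ r, Act ψ g r r) : ∃ z ∈ [1, a * a, b * b, a * a * (b * b)], ψ z = g := by
  obtain ⟨z, rfl⟩ := F.memR (h _) (h _) ((h e).to (mul_one _).symm) (by simp)
  exact ⟨z, zen z (cj_iff.1 (act_map F.inj (h _))) (cj_iff.1 (act_map F.inj (h _)))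
    (cj_iff.1 (act_map F.inj (h _))) (cj_iff.1 (act_map F.inj (h _))) (cj_iff.1 (act_map F.inj (h _)))
    (cj_iff.1 (act_map F.inj (h _))), rfl⟩

theorem modH : ∃ χ : SE α →* G, (∀ r, χ (ι r) = ψ r) ∧ χ H1.u = u ∧
    List.Forall₂ (Act χ y) J J' ∧ ∀ r, Act ψ u r (α.act K4.w r) := by
  obtain ⟨g, g1, g2⟩ := K4.model (G := G) (n' := 1) (w' := u) ⟨one_mul _, F.uu, by simp⟩
  have c := compat (α := α) (f := ψ) (g := g) (List.forall_mem_cons.2 ⟨fun r hr => by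
      rw [show g (El.of K4.tb (nat_lit 1)) = 1 from g1,
        (by decide +kernel : ∀ r, α.act (El.of K4.tb (nat_lit 1)) r = r)]
      simp [Act], List.forall_mem_cons.2 ⟨fun r hr => by
      rw [show g (El.of K4.tb (nat_lit 2)) = u from g2, (by decide +kernel : ∀ r,
        α.act (El.of K4.tb (nat_lit 2)) r = ap [e, a, a⁻¹ * b⁻¹, s, p, q⁻¹ * p⁻¹] r)]
      exact act_ap F.au _, fun _ h => absurd h List.not_mem_nil⟩⟩)
  have h1 : ∀ r, lift α ψ g c (ι r) = ψ r := lift_inl c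
  have h2 : lift α ψ g c H1.u = u := (lift_inr c _).trans g2
  obtain ⟨-, -, -, -, -, -, -, -, -, -, -, -, -, -, -, -, k1, k2, k3, k4, -, k5⟩ := F.fr.r2
  refine ⟨lift α ψ g c, h1, h2, .cons ?_ (.cons ?_ (.cons ?_ (.cons ?_ (.cons ?_ (.cons ?_ .nil))))),
    fun r => g2 ▸ c _ r⟩ <;> simp only [Act, map_mul, h1, h2]
  exacts [cj_iff.2 k5, k2, k3, k4, k1, map_mul ψ _ _ ▸ F.yp]

theorem ai : y * ψ (q * b * a) * y⁻¹ * u * (y * ψ (q * b * a) * y⁻¹)⁻¹ = u * ψ (s * a) ∧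
    ∃ B Q, List.Forall₂ (Act ψ (y * ψ (q * b * a) * y⁻¹)) [e, a, b, s, p, q]
      [e * (a * s), p * (b * b), B, p * s * (b * b) * a, b * b * a, Q] ∧
    (B = q⁻¹ * a * e ∧ Q = p⁻¹ * s * b * a * e ∨ B = q⁻¹ * a⁻¹ * e ∧ Q = p * s * b * a * e) := by
  obtain ⟨χ, h1, h2, hJ, hu⟩ := F.modH
  have k : ∀ (c1 c2 : ℕ) {z z' : SE α}, ι (q * b * a) * evw J 16 c1 * (ι (q * b * a))⁻¹ = evw J 16 c2 ∧
      evw J' 16 c1 = z ∧ evw J' 16 c2 = z' →
      y * ψ (q * b * a) * y⁻¹ * χ z * (y * ψ (q * b * a) * y⁻¹)⁻¹ = χ z' := fun c1 c2 z z' h => by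
    rw [← h1, mul_assoc y]
    exact ((act_w hJ c1 ⟨rfl, h.2.1⟩).symm.trans (Act.of_cj χ h.1)).trans (act_w hJ c2 ⟨rfl, h.2.2⟩)
  have ka := k 0x345 0x23546 (z := ι a) (z' := ι (p * (b * b))) (by decide +kernel)
  have ks := k 0x34 0x3246 (z := ι s) (z' := ι (p * s * (b * b) * a)) (by decide +kernel)
  have kp := k 0x46 0x2224 (z := ι p) (z' := ι (b * b * a)) (by decide +kernel)
  have ku := k 0x3 0x2235 (z := H1.u) (z' := H1.u * ι (s * a)) (by decide +kernel)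
  rw [h1, h1] at ka ks kp
  rw [map_mul χ, h1, h2] at ku
  obtain ⟨k1, k2, ke⟩ := F.fr.iota (f := ψ (q * b * a))
    (by simp only [← map_mul]; exact congrArg ψ (by decide +kernel))
    (by simp only [← map_mul]; exact congrArg ψ (by decide +kernel))
    (by simp only [← map_mul]; exact congrArg ψ (by decide +kernel))
    (by simp only [← map_mul, ← map_inv]; exact congrArg ψ (by decide +kernel))
  have ii : y * ψ (q * b * a) * y⁻¹ * (y * ψ (q * b * a) * y⁻¹) = 1 :=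
    cj_sq _ (by rw [← map_mul, show q * b * a * (q * b * a) = 1 by decide +kernel, map_one])
  generalize y * ψ (q * b * a) * y⁻¹ = i at *
  have i1 : i⁻¹ = i := inv_eq_of_mul_eq_one_right ii
  simp only [← map_mul] at k1 k2 ke
  have k1 := act_of_comm k1
  have k2 := act_of_comm k2
  have ke' : Act ψ i (e * (a * s)) e := i1 ▸ Act.symm ke
  have m : ∀ r z, r * (a * a) * r⁻¹ = a * a ∧ r * (b * b) * r⁻¹ = b * b ∧
      r * (e * (a * s)) * r⁻¹ = e * (a * s) * z → Act ψ i z z →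
      z ∈ [1, a * a, b * b, a * a * (b * b)] → ∃ B, Act ψ i r B := fun r z ⟨c1, c2, c3⟩ c4 c5 => by
    have t : ∀ {w w1 w2 w'}, Act ψ i w1 w → r * w1 * r⁻¹ = w2 → Act ψ i w2 w' →
        Act ψ (i * ψ r * i⁻¹) w w' := fun h c h' => by
      rw [mul_assoc]; exact (h.symm.trans (Act.of_cj ψ c)).trans h'
    obtain ⟨B, h⟩ := F.memR (t k1 c1 k1) (t k2 c2 k2) (t ke' c3 (ke'.mul c4)) c5
    exact ⟨B, h.symm⟩
  obtain ⟨B, hB⟩ := m b _ (by decide +kernel) k2 (by simp)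
  obtain ⟨Q, hQ⟩ := m q _ (by decide +kernel) k1 (by simp)
  have L : List.Forall₂ (Act ψ i) [e, a, b, s, p, q]
      [e * (a * s), p * (b * b), B, p * s * (b * b) * a, b * b * a, Q] :=
    .cons ke (.cons ka (.cons hB (.cons ks (.cons kp (.cons hQ .nil)))))
  refine ⟨ku, B, Q, L, opts B (act_inj F.inj (hB.mul hB) k2) (act_inj F.inj ((Act.inv ka).mul hB.inv) ?_)
    Q (Rel.of_map F.inj ?_) (act_inj F.inj (act_ap L B) (i1 ▸ hB.symm))⟩
  · rw [Act, ← (hu _).eq, show a⁻¹ * b⁻¹ = α.act K4.w b by decide +kernel, ← (hu _).eq, ← conj_mul,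
      ← conj_mul, ← conj_inv, ku, hB.eq, map_mul ψ (_ * B), map_mul ψ _ B, map_inv]
    group
  · rw [← ke, ← ka, ← hB.eq, ← ks, ← kp, ← hQ.eq]
    exact (rel.map ψ).map (MulAut.conj i).toMonoidHom

theorem ca (hB : Act ψ (y * ψ (q * b * a) * y⁻¹) b (q⁻¹ * a * e))
    (hQ : Act ψ (y * ψ (q * b * a) * y⁻¹) q (p⁻¹ * s * b * a * e)) :
    ∃ (φ : P.E →* G) (x y : G), CA φ x y := by
  obtain ⟨ku, B, Q, L, -⟩ := F.ai
  obtain ⟨-, -, -, -, hu⟩ := F.modH
  have ii : y * ψ (q * b * a) * y⁻¹ * (y * ψ (q * b * a) * y⁻¹) = 1 :=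
    cj_sq _ (by rw [← map_mul, show q * b * a * (q * b * a) = 1 by decide +kernel, map_one])
  generalize hi : y * ψ (q * b * a) * y⁻¹ = i at *
  have L' := L
  simp only [List.forall₂_cons] at L'
  obtain rfl := act_inj F.inj hB L'.2.2.1
  obtain rfl := act_inj F.inj hQ L'.2.2.2.2.2.1
  have ai : ∀ r, Act ψ i r (gi r) := fun r => (act_ap L r).to (maps r).1
  have i1 : i⁻¹ = i := inv_eq_of_mul_eq_one_right ii
  have aj : ∀ r, Act ψ (i * (x * (i * x⁻¹))) r (gj r) := fun r =>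
    (((F.aX r).trans (ai _)).trans (F.ax' _)).trans (ai _)
  have ak : ∀ r, Act ψ (i * (x⁻¹ * (i * x))) r (gk r) := fun r =>
    (((F.ax' r).trans (ai _)).trans (F.aX _)).trans (ai _)
  have V2 : ∀ z ∈ [1, a * a, b * b, a * a * (b * b)], z * z = 1 ∧ gj z = z ∧ gk z = z ∧ gi z = z := by
    decide +kernel
  have c3 : ∀ {g : G} {f : E → E}, (∀ r, Act ψ g r (f r)) → (∀ r, f (f (f r)) = r) →
      g * g * (g * g) * (g * g) = 1 := fun {g f} h c => by
    obtain ⟨z, hz, k⟩ := F.cenR fun r => (((h r).trans (h _)).trans (h _)).to (c r)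
    calc _ = g * (g * g) * (g * (g * g)) := by simp only [mul_assoc]
      _ = 1 := by rw [← k, ← map_mul, (V2 z hz).1, map_one]
  have inv : ∀ {j : G}, j * j = 1 → (∀ z ∈ [1, a * a, b * b, a * a * (b * b)], Act ψ (i * j) z z) →
      i * ψ (b * b) * (i * j * (i * j)) * (i * ψ (b * b)) = (i * j * (i * j))⁻¹ := fun {j} jj h => by
    have h1 := (h (b * b) (by simp)).fix
    have h2 := ((ai (b * b)).to (V2 _ (by simp)).2.2.2).fix
    have h3 : ψ (b * b) * ψ (b * b) = 1 := by rw [← map_mul, (V2 _ (by simp)).1, map_one]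
    rw [mul_assoc i, ← mul_comm' h1 h1, mul_assoc, mul_assoc _ (ψ _), ← mul_assoc (ψ _), ← h2,
      mul_assoc i (ψ _), h3, mul_one, mul_inv_rev, mul_inv_rev, i1, inv_eq_of_mul_eq_one_right jj]
    simp only [← mul_assoc, ii, one_mul]
  have hj := inv (j := x * (i * x⁻¹)) (by rw [← mul_assoc x]; exact cj_sq _ ii)
    fun z hz => (aj z).to (V2 z hz).2.1
  have hk := inv (j := x⁻¹ * (i * x)) (by simpa only [inv_inv, mul_assoc] using cj_sq x⁻¹ ii)
    fun z hz => (ak z).to (V2 z hz).2.2.1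
  have ww : u * ψ e * (u * ψ e) = 1 := by
    rw [mul_assoc, ← mul_assoc (ψ e), F.fr.r2.2.2.2.2.2.2.2.2.2.2.2.2.2.2.1, mul_assoc, F.fr.ee, mul_one, F.uu]
  have w1 : (u * ψ e)⁻¹ = u * ψ e := inv_eq_of_mul_eq_one_right ww
  have wi : u * ψ e * i * (u * ψ e)⁻¹ = i * ψ (a * a) := by
    have : i * (u * ψ e) * i⁻¹ = u * ψ e * ψ (a * a) := by
      rw [← conj_mul, ku, (ai e).eq, mul_assoc, mul_assoc, ← map_mul, ← map_mul]
      exact congrArg (u * ψ ·) (by decide +kernel)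
    rw [w1, mul_assoc, ← mul_inv_cancel_right (i * (u * ψ e)) i⁻¹, this, ← mul_assoc, ← mul_assoc, ww,
      one_mul, inv_inv, ((ai _).to (V2 _ (by simp)).2.2.2).fix]
  have wx : u * ψ e * x * (u * ψ e)⁻¹ = x⁻¹ := by
    rw [mul_assoc u, ← F.fr.xe, mul_inv_rev, F.ui, ← F.fr.ux]; group
  have hw : u * ψ e * (i * (x * (i * x⁻¹)) * (i * (x * (i * x⁻¹)))) * (u * ψ e) =
      i * (x⁻¹ * (i * x)) * (i * (x⁻¹ * (i * x))) := by
    have k1 : u * ψ e * (i * (x * (i * x⁻¹))) * (u * ψ e)⁻¹ = ψ (b * b) * (i * (x⁻¹ * (i * x))) := by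
      have k2 := ((F.aX (a * a)).to (show _ = a * a * (b * b) by decide +kernel)).eq
      have k3 := ((ai _).to (V2 (a * a) (by simp)).2.2.2).fix
      have k4 := ((ak _).to (V2 (a * a * (b * b)) (by simp)).2.2.1).fix
      rw [← conj_mul, ← conj_mul, ← conj_mul, ← conj_inv, wi, wx, k3]
      calc _ = ψ (a * a) * (i * (x⁻¹ * (ψ (a * a) * i * x))) := by simp only [mul_assoc, inv_inv]
        _ = ψ (a * a) * (i * (x⁻¹ * (i * x)) * (x⁻¹ * ψ (a * a) * x⁻¹⁻¹)) := by rw [← k3]; group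
        _ = _ := by
          rw [k2, k4, ← mul_assoc, ← map_mul]
          exact congrArg (ψ · * _) (by decide +kernel)
    have k5 := ((ak _).to (V2 (b * b) (by simp)).2.2.1).fix
    nth_rewrite 2 [← w1]
    rw [← conj_mul, k1, mul_assoc, ← mul_assoc (i * _), k5, mul_assoc (ψ _), ← mul_assoc (ψ _), ← map_mul,
      (V2 _ (by simp)).1, map_one, one_mul]
  have hcd : i * (x * (i * x⁻¹)) * (i * (x * (i * x⁻¹))) * (i * (x⁻¹ * (i * x)) * (i * (x⁻¹ * (i * x)))) =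
      i * (x⁻¹ * (i * x)) * (i * (x⁻¹ * (i * x))) * (i * (x * (i * x⁻¹)) * (i * (x * (i * x⁻¹)))) := by
    have k3 := c3 ak fun r => (rows r).2.2.2.2.2
    have ac := fun r => (aj r).trans (aj _)
    have ad := fun r => (ak r).trans (ak _)
    generalize i * (x * (i * x⁻¹)) * (i * (x * (i * x⁻¹))) = c at *
    generalize i * (x⁻¹ * (i * x)) * (i * (x⁻¹ * (i * x))) = d at *
    obtain ⟨z, hz, k⟩ := F.cenR (g := (d * c)⁻¹ * (c * d)) fun r => ((ad r).trans (ac _)).trans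
      (((ac r).trans (ad _)).to ((by decide +kernel : ∀ r, gk (gk (gj (gj r))) = gj (gj (gk (gk r)))) r)).symm
    have k1 : Commute (ψ z) d := ((ad z).to (by rw [(V2 z hz).2.2.1, (V2 z hz).2.2.1])).fix.symm
    have k2 : Commute (ψ z) c := ((ac z).to (by rw [(V2 z hz).2.1, (V2 z hz).2.1])).fix.symm
    have k4 : c * d * c⁻¹ = ψ z * d := by
      rw [mul_inv_eq_iff_eq_mul, mul_assoc, (k1.mul_right k2).eq, k]; group
    have k5 : ψ z * ψ z = 1 := by rw [← map_mul, (V2 z hz).1, map_one]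
    have k6 : (ψ z * d) ^ 3 = 1 := by rw [← k4, conj_pow, pow_three', k3]; simp
    rw [k1.mul_pow, pow_three' d, k3, mul_one, pow_three', k5, one_mul] at k6
    rw [k6, one_mul] at k4
    exact cj_iff.1 k4
  have nv := ((ai (b * b)).to (V2 _ (by simp)).2.2.2).fix
  have vv : ψ (b * b) * ψ (b * b) = 1 := by rw [← map_mul, (V2 _ (by simp)).1, map_one]
  obtain ⟨g, g1, g2, g3, g4⟩ := K36.model (n' := i * ψ (b * b)) (w' := u * ψ e) ⟨by
      rw [mul_assoc, ← mul_assoc (ψ _), ← nv, mul_assoc, vv, mul_one, ii], ww, by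
      refine (cj_iff.1 ?_).symm
      rw [← conj_mul, wi, ((Act.self ψ e (b * b)).trans (hu _)).eq, mul_assoc, ← map_mul]
      exact congrArg (i * ψ ·) (by decide +kernel),
    c3 aj fun r => (rows r).2.2.2.2.1, c3 ak fun r => (rows r).2.2.2.2.2, hcd, hj, hk, hw⟩
  have c := compat (α := P.α) (f := ψ) (g := g) (List.forall_mem_cons.2 ⟨fun r _ =>
    g1.symm ▸ ((Act.self ψ _ _).trans (ai _)).to (rows _).1, List.forall_mem_cons.2 ⟨fun r _ =>
    g2.symm ▸ ((Act.self ψ _ _).trans (hu _)).to (rows _).2.1, List.forall_mem_cons.2 ⟨fun r _ =>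
    g3.symm ▸ ((aj _).trans (aj _)).to (rows _).2.2.1, List.forall_mem_cons.2 ⟨fun r _ =>
    g4.symm ▸ ((ak _).trans (ak _)).to (rows _).2.2.2.1, fun _ h => absurd h List.not_mem_nil⟩⟩⟩⟩)
  have h1 : ∀ r, lift P.α ψ g c ⟨r, 1⟩ = ψ r := lift_inl c
  have h2 : ∀ k, lift P.α ψ g c ⟨1, k⟩ = g k := lift_inr c
  generalize lift P.α ψ g c = φ at h1 h2
  have hu' : φ P.u = u := by
    rw [P.defs.2.2.1, map_mul, P.w, P.e, h1, h2, g2, mul_assoc, F.fr.ee, mul_one]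
  refine ⟨φ, x, y, (injective_iff_map_eq_one φ).2 fun z hz => ?_, ?_, ?_, ?_⟩
  · have m : ∀ r, z * ⟨r, 1⟩ = ⟨r, 1⟩ * z := fun r => cj_iff.1 (by
      have k := eq_inl (u := z * ⟨r, 1⟩ * z⁻¹) (show z.k * 1 * z.k⁻¹ = 1 by simp)
      rw [k]
      refine congrArg (inl P.α) (F.inj ((h1 _).symm.trans ((congrArg φ k.symm).trans ?_)))
      rw [map_mul, map_mul, map_inv, hz, h1]; simp)
    have := eq_inl (faith z (m _) (m _) (m _) (m _) (m _) (m _))
    rw [this] at hz ⊢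
    rw [F.inj (((h1 _).symm.trans hz).trans (map_one ψ).symm), map_one]
  · rw [hu', P.e, P.a, P.b, P.s, h1, h1, h1, h1]; exact F.fr
  · rw [Act, map_mul, map_mul, hu', P.p, P.s, h1, h1, F.yp, map_mul]
  · rw [Act, P.defs.2.2.2.1, P.defs.2.2.2.2]
    simp only [map_mul, P.q, P.b, P.a, P.n, h1, h2, g1]
    simp only [← map_mul]
    rw [hi, mul_assoc, vv, mul_one]

theorem swap (hB : Act ψ (y * ψ (q * b * a) * y⁻¹) b (q⁻¹ * a⁻¹ * e))
    (hQ : Act ψ (y * ψ (q * b * a) * y⁻¹) q (p * s * b * a * e)) :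
    ∃ (φ : P.E →* G) (x y : G), CA φ x y := by
  obtain ⟨-, B, Q, L, -⟩ := F.ai
  obtain ⟨χ, h1, h2, hJ, hu⟩ := F.modH
  have L' := L
  simp only [List.forall₂_cons] at L'
  obtain rfl := act_inj F.inj hB L'.2.2.1
  obtain rfl := act_inj F.inj hQ L'.2.2.2.2.2.1
  obtain ⟨σ, s1, s2, s3, s4, s5, s6⟩ := model (e' := e) (a' := a * (b * b)) (b' := a * a * (b * b) * b)
    (s' := s) (p' := p) (q' := q) (by decide +kernel)
  have k : ∀ {g : G} {r z r' z'}, Act ψ g r' z' → σ r = r' ∧ σ z = z' → Act (ψ.comp σ) g r z :=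
    fun h c => by rwa [← c.1, ← c.2] at h
  have us : ∀ r, Act ψ (u * ψ s) r (α.act K4.w (s * r * s⁻¹)) := fun r => (Act.self ψ s r).trans (hu _)
  have yt : Act ψ y (a * a) (a * a) := by
    have := act_w hJ 0x22 (u := ι (a * a)) (w := ι (a * a)) (by decide +kernel)
    rwa [Act, h1] at this
  have ye : y * ψ e = ψ e * y := F.fr.r2.2.2.2.2.2.2.2.2.2.2.2.2.2.2.2.2.2.2.2.2.2
  have F' : Pre (ψ.comp σ) (u * ψ s) x (ψ b * y * (ψ b)⁻¹) := by
    refine ⟨?_, k (us p) ?_, k (us q) ?_, k F.xp ⟨s5, s6⟩, k F.xq ⟨s6, ?_⟩, ?_⟩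
    · simp only [MonoidHom.comp_apply, s1, s2, s3, s4]
      have aa : ψ (a * (b * b)) * ψ (a * (b * b)) = ψ a * ψ a := by
        simp only [← map_mul]; exact congrArg ψ (by decide +kernel)
      refine ⟨⟨F.fr.x3, (F.ax' _).to (by decide +kernel), ?_, F.fr.xs, ?_⟩, ?_, F.fr.xe, aa ▸ F.fr.ne,
        F.fr.nsq, F.fr.c1, aa ▸ F.fr.c2⟩
      · rw [← map_inv, ← map_inv, ← map_mul]; exact (F.ax' _).to (by decide +kernel)
      · rw [mul_assoc u, ← F.fr.xs, F.fr.r2.2.2.2.2.2.2.2.2.2.1, ← F.fr.ux]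
        simp only [mul_assoc]
        rw [← mul_assoc (ψ s), F.fr.r2.2.2.2.1, one_mul]
      · obtain ⟨θ, -, t1, t2, t3, t4, t5, t6, -⟩ := F.fr.mod2
        simp only [map_mul]
        rw [← t1, ← t2, ← t3, ← t4, ← t5, ← t6]
        open E2 in simpa only [map_mul, map_inv] using (show E2.Rel E2.e (E2.a * (E2.b * E2.b))
          (E2.a * E2.a * (E2.b * E2.b) * E2.b) E2.s (E2.u * E2.s) (E2.b * E2.y * E2.b⁻¹) by
            decide +kernel).map θ
    · rw [s5]; decide +kernel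
    · rw [map_mul, map_inv, map_inv, s5, s6]; decide +kernel
    · rw [map_mul, map_inv, map_inv, s5, s6]
    · have := ((Act.self χ (ι b)⁻¹ (ι p)).trans (act_w hJ 0x1561 (w := ι (p * a) * H1.u)
        (by decide +kernel))).trans (Act.of_cj χ (show ι b * _ * _ = ι (p * s) * (H1.u * ι s) by
          decide +kernel))
      simp only [Act, map_mul, map_inv, h1, h2] at this
      simp only [MonoidHom.comp_apply, map_mul, s4, s5]
      rwa [mul_assoc (ψ b) y]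
  have e1 : ψ b * y * (ψ b)⁻¹ * ψ.comp σ (q * b * a) * (ψ b * y * (ψ b)⁻¹)⁻¹ =
      ψ (b * e) * (y * ψ (q * b * a) * y⁻¹ * ψ (a * a)) * (ψ (b * e))⁻¹ := by
    have : ψ.comp σ (q * b * a) = ψ b * (ψ e * (ψ (q * b * a) * ψ (a * a)) * (ψ e)⁻¹) * (ψ b)⁻¹ := by
      simp only [MonoidHom.comp_apply, map_mul σ, s2, s3, s6, ← map_inv, ← map_mul ψ]
      exact congrArg ψ (by decide +kernel)
    rw [this, map_mul ψ b]
    nth_rewrite 2 [← yt.eq]
    calc _ = ψ b * (y * ψ e * (ψ (q * b * a) * ψ (a * a)) * (y * ψ e)⁻¹) * (ψ b)⁻¹ := by group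
      _ = _ := by rw [ye]; group
  have e2 := fun r => (((Act.self ψ (b * e)⁻¹ r).trans (Act.self ψ (a * a) _)).trans
    (act_ap L _)).trans (Act.self ψ (b * e) _)
  simp only [map_inv, ← mul_assoc] at e2
  refine F'.ca ?_ ?_ <;> rw [e1] <;> simp only [← mul_assoc] <;> refine k (e2 _) ⟨rfl, ?_⟩ <;>
    simp only [map_mul, map_inv, s1, s2, s3, s4, s5, s6] <;> decide +kernel

end Pre

theorem exists_ca {e a b s u x y p q : G} (F : Fr e a b s u x y)
    (hP : PQ e a b s u x y p q 1 1) : ∃ (φ : P.E →* G) (x y : G), CA φ x y := by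
  obtain ⟨r0, r1, r2, r3, r4, r5, uu, -, -, us, r6, r7, r8, r9, -, -, -, -, -, yu, -⟩ := F.r2
  obtain ⟨ψ, rfl, rfl, rfl, rfl, rfl, rfl⟩ := R11.model ⟨r0, r1, r2, r3, r4, r5, r6, r7, r8, r9,
    hP.pe, hP.ps, by simpa only [pow_one] using hP.pa,
    by simpa only [pow_one] using hP.pb, by simpa only [pow_one] using hP.pp, hP.qe, hP.qs,
    by simpa only [pow_one] using hP.qa, by simpa only [pow_one] using hP.qb,
    by simpa only [pow_one] using hP.qq, hP.pq⟩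
  have ui : u⁻¹ = u := inv_eq_of_mul_eq_one_right uu
  have up : u * ψ R11.p = ψ R11.p * u := cj_iff.1 (ui.symm ▸ hP.up)
  have H : Pre ψ u x y := ⟨F, act_of_comm up, by simpa only [Act, ui, map_mul, map_inv] using hP.uq,
    hP.xp, by simpa only [Act, map_mul, map_inv] using hP.xq, by
      have := hP.py
      rw [pow_one, mul_inv_eq_iff_eq_mul] at this
      have k : ψ R11.s * u * (y * ψ R11.p * y⁻¹) = ψ R11.p := by
        rw [← yu, conj_mul, ← mul_assoc, ← this, mul_inv_cancel_right]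
      rw [eq_inv_mul_of_mul_eq k, mul_inv_rev, ui, inv_eq_of_mul_eq_one_right r3, map_mul, us,
        mul_assoc, up, ← mul_assoc, ← hP.ps]⟩
  obtain ⟨-, B, Q, L, h⟩ := H.ai
  simp only [List.forall₂_cons] at L
  rcases h with ⟨rfl, rfl⟩ | ⟨rfl, rfl⟩
  exacts [H.ca L.2.2.1 L.2.2.2.2.2.1, H.swap L.2.2.1 L.2.2.2.2.2.1]

end H30.CM
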