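import Mathlib
import Cfsg.Agent.Base
import Cfsg.Agent.Lib.Co3M.C2

/-! The Sylow subgroup of `C(t)` and the two remaining relations (helper35). -/

set_option autoImplicit false
set_option maxRecDepth 100000
set_option linter.unusedSectionVars false

namespace H30.CM

open Subgroup H69 Cfsg H70.TM

namespace RL
variable {E G : Type*} [Group E] [Group G] {φ : E →* G} {m n : G} {L L' L'' : List E}

theorem fa_self (φ : E →* G) (g : E) (L : List E) :
    List.Forall₂ (Act φ (φ g)) L (L.map fun z => g * z * g⁻¹) := by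
  induction L with
  | nil => exact .nil
  | cons z L ih => exact .cons (Act.self φ g z) ih

theorem fa_trans (h : List.Forall₂ (Act φ m) L L') (h' : List.Forall₂ (Act φ n) L' L'') :
    List.Forall₂ (Act φ (n * m)) L L'' := by
  induction h generalizing L'' with
  | nil => cases h'; exact .nil
  | cons a _ ih => cases h' with
    | cons b c => exact .cons (a.trans b) (ih c)

theorem fa_evw (h : List.Forall₂ (Act φ m) L L') (cs : List ℕ) :
    List.Forall₂ (Act φ m) (cs.map (evw L 16)) (cs.map (evw L' 16)) := by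
  induction cs with
  | nil => exact .nil
  | cons c cs ih => exact .cons (act_evw h c) ih

theorem fa_pow {cs : List ℕ} (h : List.Forall₂ (Act φ m) L (cs.map (evw L 16))) (k : ℕ) :
    List.Forall₂ (Act φ (m ^ k)) L ((fun M => cs.map (evw M 16))^[k] L) := by
  induction k with
  | zero =>
    rw [pow_zero, ← map_one φ]
    simpa using fa_self φ 1 L
  | succ k ih =>
    rw [pow_succ, Function.iterate_succ_apply']
    exact fa_trans h (fa_evw ih cs)

theorem fa_fix (h : List.Forall₂ (Act φ m) L L) : ∀ z ∈ L, m * φ z = φ z * m :=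
  fun z hz => (List.forall₂_same.1 h z hz).fix

end RL

namespace P

theorem S_pow8 : ∀ k ∈ [1, K36.n, K36.w, K36.n * K36.w], ∀ r : R11.E,
    (⟨r, k⟩ : E) * ⟨r, k⟩ * (⟨r, k⟩ * ⟨r, k⟩) * (⟨r, k⟩ * ⟨r, k⟩ * (⟨r, k⟩ * ⟨r, k⟩)) = 1 := by
  decide +kernel

/-- `S` has exponent 8 -/
theorem pow8 {g : E} (h : g ∈ S) : g ^ 2 ^ 3 = 1 := by rw [pow_eight]; exact S_pow8 g.k h g.r

theorem v_comm : ∀ k ∈ [1, K36.n, K36.w, K36.n * K36.w], ∀ r : R11.E,
    v * ⟨r, k⟩ = ⟨r, k⟩ * v ∨ v * ⟨r, k⟩ = t * (⟨r, k⟩ * v) := by decide +kernel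

theorem z2_S : ∀ k ∈ [1, K36.n, K36.w, K36.n * K36.w], ∀ r : R11.E, (⟨r, k⟩ : E) * ⟨r, k⟩ = 1 →
    List.Forall (fun g => ⟨r, k⟩ * g = g * ⟨r, k⟩ ∨ ⟨r, k⟩ * g = t * (g * ⟨r, k⟩))
      [e, a, b, s, p, q, n, w] →
    (⟨r, k⟩ : E) = 1 ∨ ⟨r, k⟩ = t ∨ ⟨r, k⟩ = v ∨ w * ⟨r, k⟩ * w⁻¹ = v := by decide +kernel

theorem gens_S : ∀ g ∈ [e, a, b, s, p, q, n, w, v], g ∈ S := List.forall_iff_forall_mem.1
  (by decide +kernel : List.Forall (fun g : E => g.k ∈ [1, K36.n, K36.w, K36.n * K36.w])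
    [e, a, b, s, p, q, n, w, v])

theorem cent_Y : ∀ z : E,
    List.Forall (fun g => z * g = g * z) [i * u * e, s * a, p * a, q * b * e, v] →
    z * z * (z * z) = 1 ∧ (z * z = 1 → z = 1 ∨ z = t) := by decide +kernel

end P

namespace CA
open P RL
variable {G : Type*} [Group G] [Finite G] {φ : E →* G} {x y : G} (C : CA φ x y)
include C

theorem cJ {g : G} (h : ∀ z ∈ [e, a, s, u, v, p], g * φ z = φ z * g) : g = 1 ∨ g = φ t := by
  obtain ⟨χ, i, k1, k2, k3, k4, k5, -, k⟩ := C.fr.mod2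
  have ha := h a (by simp)
  obtain ⟨z, rfl⟩ := k g (h e (by simp)) (comm_mul ha ha)
  have hv := h v (by simp)
  rw [defs.2.1, map_mul] at hv
  have hp := h p (by simp)
  rcases (by decide +kernel : ∀ z : E2.E, z * E2.a = E2.a * z → z * E2.s = E2.s * z →
      z * E2.u = E2.u * z → z * (E2.b * E2.b) = E2.b * E2.b * z →
      z = 1 ∨ z = E2.a * E2.a ∨ z = E2.e ∨ z = E2.e * (E2.a * E2.a)) z
    (i (by rw [map_mul, map_mul, k2, ha])) (i (by rw [map_mul, map_mul, k4, h s (by simp)]))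
    (i (by rw [map_mul, map_mul, k5, h u (by simp)]))
    (i (by simp only [map_mul, k3, hv])) with rfl | rfl | rfl | rfl
  · exact Or.inl (map_one _)
  · exact Or.inr (by rw [defs.1, map_mul, map_mul, k2])
  · rw [k1, ← map_mul, ← map_mul] at hp
    exact absurd (C.inj hp) (by decide +kernel)
  · simp only [map_mul, k1, k2] at hp
    simp only [← map_mul] at hp
    exact absurd (C.inj hp) (by decide +kernel)

theorem sylow : IsSylowIn 2 (S.map φ) 𝐂₀(φ t) := by
  refine sylow_of_norm (isP_of_pow 3 ?_) ?_ fun g hg hN => ?_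
  · rintro _ ⟨z, hz, rfl⟩
    rw [← map_pow, pow8 hz, map_one]
  · rintro _ ⟨z, -, rfl⟩
    exact mem_c.2 (by rw [← map_mul, ← map_mul, cen_t])
  have k : ∀ g ∈ 𝐍(S.map φ), ∀ z ∈ S, ∃ z' ∈ S, Act φ g z z' := fun g hg z hz =>
    let ⟨z', h1, h2⟩ := (mem_normalizer_iff.1 hg _).1 ⟨z, hz, rfl⟩; ⟨z', h1, h2.symm⟩
  have gt : Act φ g t t := act_of_comm (mem_c.1 hg)
  obtain ⟨z, hz, gz⟩ := k g hN v (gens_S v (by simp))
  have key : g ∈ φ.range := by
    have z2 : z * z = 1 :=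
      act_inj C.inj (gz.mul gz) ((Act.one φ g).of_eq ⟨by decide +kernel, rfl⟩)
    have z3 : ∀ c ∈ [e, a, b, s, p, q, n, w], z * c = c * z ∨ z * c = t * (c * z) := fun c hc => by
      obtain ⟨c', h1, h2⟩ := k _ (inv_mem hN) c (gens_S c (List.mem_append_left [v] hc))
      have h2 : Act φ g c' c := by simpa only [inv_inv] using h2.symm
      have h3 : v * c' = c' * v ∨ v * c' = t * (c' * v) := v_comm c'.k h1 c'.r
      exact h3.imp (fun e => act_inj C.inj (gz.mul h2) ((h2.mul gz).of_eq ⟨e.symm, rfl⟩))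
        fun e => act_inj C.inj (gz.mul h2) ((gt.mul (h2.mul gz)).of_eq ⟨e.symm, rfl⟩)
    have z4 : z = 1 ∨ z = t ∨ z = v ∨ w * z * w⁻¹ = v :=
      z2_S z.k hz z.r z2 (List.forall_iff_forall_mem.2 z3)
    rcases z4 with rfl | rfl | rfl | e
    · exact absurd (act_inj' C.inj gz (Act.one φ g)) (by decide +kernel)
    · exact absurd (act_inj' C.inj gz gt) (by decide +kernel)
    · exact C.cv gt.fix gz.fix
    · exact (mul_mem_cancel_left (⟨w, rfl⟩ : φ w ∈ φ.range)).1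
        (C.cv (gt.trans (Act.of_cj φ (cj_iff.2 (cen_t w)))).fix (gz.trans (Act.of_cj φ e)).fix)
  obtain ⟨Z, rfl⟩ := key
  obtain ⟨z1, a1, b1⟩ := k _ hN n (gens_S n (by simp))
  obtain ⟨z2, a2, b2⟩ := k _ hN w (gens_S w (by simp))
  rw [← act_map C.inj b1] at a1
  rw [← act_map C.inj b2] at a2
  exact ⟨Z, (by decide +kernel : ∀ k : K36.E,
    k * K36.n * k⁻¹ ∈ [1, K36.n, K36.w, K36.n * K36.w] →
    k * K36.w * k⁻¹ ∈ [1, K36.n, K36.w, K36.n * K36.w] →
    k ∈ [1, K36.n, K36.w, K36.n * K36.w]) Z.k a1 a2, rfl⟩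

theorem r1 : (φ (c * d) * y) ^ 3 = 1 ∨ (φ (c * d) * y) ^ 3 = φ t := by
  have h := fa_trans C.yJ (fa_self φ (c * d) _)
  rw [show List.map _ _ = [0x3, 0x46, 0x134, 0x4, 0x3561, 0x246].map (evw [e, a, s, u, v, p] 16) by
    decide +kernel] at h
  have k := fa_pow h 3
  rw [show Nat.iterate _ 3 _ = [e, a, s, u, v, p] by decide +kernel] at k
  exact C.cJ (fa_fix k)

theorem r2 : (φ (c * d⁻¹ * s * i * a) * y * φ (s * b)) ^ 4 = 1 ∨
    (φ (c * d⁻¹ * s * i * a) * y * φ (s * b)) ^ 4 = φ t := by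
  have h0 := fa_self φ (s * b) [t, s * a, p * a, v, i * u * e, q * b * e]
  rw [show List.map _ _ = [0x22, 0x325, 0x256, 0x5, 0x2748, 0x712].map
    (evw [e, a, s, u, v, p, f, i] 16) by decide +kernel] at h0
  have h := fa_trans (fa_trans h0 (fa_evw C.yO _)) (fa_self φ (c * d⁻¹ * s * i * a) _)
  rw [← mul_assoc, show List.map _ _ = [0x1, 0x14, 0x1234, 0x46, 0x462, 0x56].map
    (evw [t, s * a, p * a, v, i * u * e, q * b * e] 16) by decide +kernel] at h
  have k := fa_pow h 4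
  rw [show Nat.iterate _ 4 _ = [t, s * a, p * a, v, i * u * e, q * b * e] by decide +kernel] at k
  have ht : Act φ _ t t := (List.forall₂_cons.1 h).1.to (by decide +kernel)
  generalize φ (c * d⁻¹ * s * i * a) * y * φ (s * b) = r at *
  have k := fa_fix k
  obtain ⟨Z, hZ⟩ := C.cv (k t (by simp)) (k v (by simp))
  obtain ⟨z1, z2⟩ := cent_Y Z (List.forall_iff_forall_mem.2 fun g hg => C.inj (by
    rw [map_mul, map_mul, hZ]
    exact k g (by simp only [List.mem_cons, List.not_mem_nil] at hg ⊢; tauto)))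
  obtain ⟨g, -, z, hz, e⟩ := exists_cj_mem C.sylow (mem_c.2 ht.fix) (k := 4) (by
    rw [show 2 ^ 4 = 4 * 2 * 2 from rfl, pow_mul, pow_mul, ← hZ, pow_two, pow_two]
    simp only [← map_mul, z1, map_one])
  have e8 : r ^ 8 = 1 := by
    have := congrArg φ (pow8 hz)
    rwa [map_pow, map_one, e, conj_pow, conj_eq_one_iff] at this
  rw [← hZ]
  refine (z2 (C.inj ?_)).imp (fun e => by rw [e, map_one]) (congrArg φ)
  rw [map_mul, hZ, ← pow_add, map_one, e8]

end CA

end H30.CM
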