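import Mathlib
import Cfsg.Agent.Base
import Cfsg.Agent.Lib.Co3M.TSp
import Cfsg.Agent.Lib.Mdl.F2
import Cfsg.Agent.Lib.Sp.Simple

/-!
# Eleven matrices generating `Sp₆(2)` (helper4)
-/

set_option autoImplicit false
set_option maxRecDepth 100000

namespace H30.CM.SpM

open Subgroup H70.TM H18.TC H15.Mdl Matrix
open H54 (force force_eq dig)

section words
variable {G : Type*} [Group G]

theorem hom_ev {G' : Type*} [Group G'] (f : G →* G') (l : List G) (w : List ℕ) :
    f (ev (lt l) w) = ev (lt (l.map f)) w := by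
  induction w with
  | nil => exact map_one f
  | cons x w ih => rw [ev_cons, ev_cons, map_mul, ih, map_lt]

theorem ev_append_of_lt (l l' : List G) (w : List ℕ) (h : ∀ x ∈ w, x < 2 * l.length) :
    ev (lt (l ++ l')) w = ev (lt l) w := by
  induction w with
  | nil => rfl
  | cons x w ih =>
    have hx := h x List.mem_cons_self
    rw [ev_cons, ev_cons, ih fun y hy => h y (List.mem_cons_of_mem _ hy), lt, lt,
      List.getD_append _ _ _ _ (by omega)]

theorem ev_mem {l : List G} {K : Subgroup G} (h : ∀ a ∈ l, a ∈ K) (w : List ℕ) :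
    ev (lt l) w ∈ K := by
  induction w with
  | nil => exact one_mem _
  | cons x w ih => rw [ev_cons]; exact mul_mem ih (lt_mem h x)

/-- the code of a letter; the generators have orders dividing 12 -/
noncomputable def ltm (o : Ops) (S : List ℕ) (x : ℕ) : ℕ :=
  if x % 2 = 0 then S.getD (x / 2) o.one else o.pow (S.getD (x / 2) o.one) 11

/-- the code of a word -/
noncomputable def evm (o : Ops) (S : List ℕ) (w : List ℕ) : ℕ :=
  List.rec (motive := fun _ => ℕ) o.one (fun x _ ih => o.mul ih (ltm o S x)) w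

theorem rep_evm {o : Ops} {R : G → ℕ → Prop} (h : Sound o R) {l : List G} {S : List ℕ}
    (hl : List.Forall₂ R l S) (h12 : ∀ g ∈ l, g ^ 12 = 1) (w : List ℕ) :
    R (ev (lt l) w) (evm o S w) := by
  induction w with
  | nil => exact h.one
  | cons x w ih =>
    rw [ev_cons]
    refine h.mul ih ?_
    have e := hl.length_eq
    have k : R (l.getD (x / 2) 1) (S.getD (x / 2) o.one) ∧ l.getD (x / 2) 1 ^ 12 = 1 := by
      by_cases hx : x / 2 < l.length
      · rw [List.getD_eq_getElem _ _ hx, List.getD_eq_getElem _ _ (e ▸ hx)]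
        exact ⟨List.forall₂_iff_get.1 hl |>.2 _ hx (e ▸ hx), h12 _ (List.getElem_mem _)⟩
      · rw [List.getD_eq_default _ _ (by omega), List.getD_eq_default _ _ (by omega)]
        exact ⟨h.one, one_pow _⟩
    unfold lt ltm
    split_ifs
    · exact k.1
    · rw [inv_eq_of_mul_eq_one_left ((pow_succ _ 11).symm.trans k.2)]
      exact h.pow k.1 11

end words

/-- the group -/
abbrev G6 : Type := Matrix.symplecticGroup (Fin 3) (ZMod 2)

/-- the vectors -/
abbrev V6 : Type := Fin 3 ⊕ Fin 3 → ZMod 2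

/-- the number of a coordinate -/
def ix : Fin 3 ⊕ Fin 3 → ℕ := Sum.elim (fun i => i.val) (fun i => i.val + 3)

/-- the basis -/
def bb (k : ℕ) : V6 := fun j => if ix j = k then 1 else 0

/-- the vector with a given code -/
def vec (x : ℕ) : V6 := fun j => if x.testBit (ix j) then 1 else 0

/-- the matrix with a given code -/
def mat (c : ℕ) : Matrix (Fin 3 ⊕ Fin 3) (Fin 3 ⊕ Fin 3) (ZMod 2) :=
  fun i j => if c.testBit (6 * ix j + ix i) then 1 else 0

theorem dec_eq (x : ℕ) : dec bb 6 x = vec x := by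
  funext j
  simp only [dec, Finset.sum_range_succ, Finset.sum_range_zero, Pi.add_apply, Pi.zero_apply,
    ite_apply, vec, bb]
  rcases j with j | j <;> fin_cases j <;> simp [ix]

theorem exists_vec (w : V6) : ∃ x < 64, w = vec x := by
  have k : ∀ a0 a1 a2 a3 a4 a5 : ZMod 2,
      a0.val + 2 * a1.val + 4 * a2.val + 8 * a3.val + 16 * a4.val + 32 * a5.val < 64 ∧
      (Sum.elim ![a0, a1, a2] ![a3, a4, a5] : V6) =
        vec (a0.val + 2 * a1.val + 4 * a2.val + 8 * a3.val + 16 * a4.val + 32 * a5.val) := by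
    decide +kernel
  obtain ⟨k1, k2⟩ := k (w (.inl 0)) (w (.inl 1)) (w (.inl 2)) (w (.inr 0)) (w (.inr 1)) (w (.inr 2))
  refine ⟨_, k1, Eq.trans (funext fun j => ?_) k2⟩
  rcases j with j | j <;> fin_cases j <;> rfl

/-- the action on the vectors -/
def ρ : G6 →* AddMonoid.End V6 where
  toFun g := (Matrix.mulVecLin g.1).toAddMonoidHom
  map_one' := AddMonoidHom.ext fun v => H11.Sp.coe_one_mulVec v
  map_mul' g h := AddMonoidHom.ext fun v => H11.Sp.coe_mul_mulVec g h v

theorem ρ_apply (g : G6) (v : V6) : ρ g v = g.1 *ᵥ v := rfl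

/-- the multiplication of codes -/
noncomputable def o6 : Ops :=
  ⟨fun p q => force p fun p => force q fun q => mm 6 63 0x41041041 p q, 0x810204081, Nat.beq⟩

/-- `p` is the code of `g` -/
abbrev R6 : G6 → ℕ → Prop := R2 ρ bb 6

theorem sound : Sound o6 R6 := by
  refine sound_F2 ⟨by norm_num, by decide +kernel, fun x hx => ?_⟩
    (IsF2.of_lit (m := 63) (E := 0x41041041) (by decide +kernel) (by decide +kernel)
      (by decide +kernel) (fun _ _ => rfl) fun _ _ => rfl) fun g h e => ?_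
  · rw [dec_eq]
    exact (by decide +kernel : ∀ x, x < 2 ^ 6 → vec x = 0 → x = 0) x hx
  · refine Subtype.ext (Matrix.ext fun i j => ?_)
    have k : ∀ j, ix j < 6 ∧ bb (ix j) = Pi.single j 1 := by decide +kernel
    have := congrFun (e _ (k j).1) i
    rw [(k j).2, ρ_apply, ρ_apply] at this
    simpa using this

theorem R6.of {g : G6} {p : ℕ} (h : p < 2 ^ (6 * 6) ∧ ∀ k, k < 6 → g.1 *ᵥ bb k = vec (dig 6 p k)) :
    R6 g p := ⟨h.1, fun k hk => by rw [dec_eq]; exact h.2 k hk⟩

theorem R6.col {g : G6} {p : ℕ} (h : R6 g p) : g.1 *ᵥ bb 0 = vec (dig 6 p 0) := by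
  rw [← dec_eq]; exact h.2 0 (by norm_num)

/-- the element with a given code -/
def el (c : ℕ) (h : mat c * J (Fin 3) (ZMod 2) * (mat c)ᵀ = J (Fin 3) (ZMod 2)) : G6 := ⟨mat c, h⟩

def me : G6 := el 0x8d53c4081 (by decide +kernel)
def ma : G6 := el 0x8d6344081 (by decide +kernel)
def mb : G6 := el 0x870bc7081 (by decide +kernel)
def ms : G6 := el 0x896244081 (by decide +kernel)
def mp : G6 := el 0x896204081 (by decide +kernel)
def mq : G6 := el 0x8f6386081 (by decide +kernel)
def mn : G6 := el 0x9106440c1 (by decide +kernel)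
def mw : G6 := el 0x911284081 (by decide +kernel)
def mc : G6 := el 0x90a6600c2 (by decide +kernel)
def md : G6 := el 0x10a6640c2 (by decide +kernel)
def my : G6 := el 0x572687101 (by decide +kernel)
def mA : G6 := el 0x813284081 (by decide +kernel)

/-- the generators -/
def M : List G6 := [me, ma, mb, ms, mp, mq, mn, mw, mc, md, my]

/-- their codes -/
def S : List ℕ := [0x8d53c4081, 0x8d6344081, 0x870bc7081, 0x896244081, 0x896204081, 0x8f6386081,
  0x9106440c1, 0x911284081, 0x90a6600c2, 0x10a6640c2, 0x572687101]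

theorem rep_M : List.Forall₂ R6 M S :=
  .cons (.of (by decide +kernel)) <| .cons (.of (by decide +kernel)) <|
  .cons (.of (by decide +kernel)) <| .cons (.of (by decide +kernel)) <|
  .cons (.of (by decide +kernel)) <| .cons (.of (by decide +kernel)) <|
  .cons (.of (by decide +kernel)) <| .cons (.of (by decide +kernel)) <|
  .cons (.of (by decide +kernel)) <| .cons (.of (by decide +kernel)) <|
  .cons (.of (by decide +kernel)) .nil

theorem pow_M : ∀ g ∈ M, g ^ 12 = 1 := fun g hg => by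
  obtain ⟨i, hi, rfl⟩ := List.getElem_of_mem hg
  have hi' : i < S.length := rep_M.length_eq ▸ hi
  exact (sound.isOne_iff (sound.pow (List.forall₂_iff_get.1 rep_M |>.2 i hi hi') 12)).1
    ((by decide +kernel : ∀ s ∈ S, o6.isOne (o6.pow s 12) = true) _ (List.getElem_mem _))

theorem rep_w (w : List ℕ) : R6 (ev (lt M) w) (evm o6 S w) := rep_evm sound rep_M pow_M w

theorem ev_eq {w w' : List ℕ} (h : evm o6 S w = evm o6 S w') : ev (lt M) w = ev (lt M) w' :=
  sound.inj (rep_w w) (h ▸ rep_w w')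

theorem ev_eq_one {L : List (List ℕ)} (h : ∀ w ∈ L, evm o6 S w = o6.one) :
    ∀ w ∈ L, ev (lt M) w = 1 := fun w hw => ev_eq (w' := []) (h w hw)

theorem sat : ∀ R ∈ SpE.rels, ev (lt M) R = 1 := ev_eq_one (by decide +kernel)

theorem ps_eq : mp * ms = H11.Sp.tv (bb 0) 1 :=
  sound.inj (sound.mul (p := 0x896204081) (q := 0x896244081) (.of (by decide +kernel))
    (.of (by decide +kernel))) (sound.tr (p := 0x810244081) (.of (by decide +kernel))
      (by decide +kernel))

theorem ae_eq : ma * me = mA :=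
  sound.inj (sound.mul (p := 0x8d6344081) (q := 0x8d53c4081) (.of (by decide +kernel))
    (.of (by decide +kernel))) (sound.tr (p := 0x813284081) (.of (by decide +kernel))
      (by decide +kernel))

theorem aev_eq : mA * (mb * mb) = H11.Sp.tv (bb 1) 1 :=
  have hb : R6 mb 0x870bc7081 := .of (by decide +kernel)
  sound.inj (sound.mul (p := 0x813284081) (.of (by decide +kernel)) (sound.mul hb hb))
    (sound.tr (p := 0x812204081) (.of (by decide +kernel)) (by decide +kernel))

/-- words moving the first basis vector to the other vectors -/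
def Ws : List (List ℕ) := [[], [], [16], [16, 12], [16, 20], [16, 12, 20], [16, 20, 10], [16, 20, 4],
  [16, 12, 20, 16, 20, 16], [16, 20, 18, 20, 16], [16, 20, 10, 16, 20, 16], [16, 20, 4, 18, 20, 16],
  [16, 20, 16, 20, 10, 18], [16, 20, 16, 20, 4, 16], [16, 20, 16, 20, 16, 4],
  [16, 20, 16, 20, 16, 20], [16, 20, 10, 16, 20], [16, 12, 20, 16, 20], [16, 20, 18, 20],
  [16, 20, 4, 18, 20], [16, 20, 4, 16, 20], [16, 20, 16, 20], [16, 12, 20, 18, 20],
  [16, 20, 10, 18, 20], [16, 20, 18, 20, 16, 12], [16, 12, 20, 16, 20, 16, 12],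
  [16, 12, 20, 16, 20, 16, 20], [16, 20, 18, 20, 16, 16], [16, 20, 10, 18, 20, 16, 18],
  [16, 20, 16, 20, 16, 18], [16, 20, 4, 16, 20, 16, 18], [16, 12, 20, 18, 20, 16, 18], [16, 20, 16],
  [16, 20, 4, 16], [16, 12, 20, 16], [16, 20, 10, 16], [16, 20, 18], [16, 20, 4, 18],
  [16, 12, 20, 18], [16, 20, 10, 18], [16, 20, 16, 20, 16], [16, 12, 20, 18, 20, 16],
  [16, 20, 4, 16, 20, 16], [16, 20, 10, 18, 20, 16], [16, 20, 16, 20, 18], [16, 12, 20, 18, 20, 18],
  [16, 20, 4, 16, 20, 18], [16, 20, 10, 18, 20, 18], [16, 20, 4, 16, 20, 10], [16, 20, 16, 20, 10],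
  [16, 20, 18, 20, 4], [16, 12, 20, 16, 20, 20], [16, 20, 16, 20, 20], [16, 12, 20, 18, 20, 4],
  [16, 20, 16, 20, 4], [16, 12, 20, 16, 20, 10], [16, 12, 20, 18, 20, 18, 12],
  [16, 20, 16, 20, 18, 12], [16, 20, 4, 16, 20, 18, 12], [16, 12, 20, 18, 20, 18, 18],
  [16, 12, 20, 18, 20, 16, 12], [16, 20, 16, 20, 16, 12], [16, 20, 4, 16, 20, 16, 12],
  [16, 12, 20, 18, 20, 16, 16]]

theorem closure_M : Subgroup.closure {g | g ∈ M} = ⊤ := by
  have hM : ∀ g ∈ M, g ∈ Subgroup.closure {g | g ∈ M} := fun g hg => Subgroup.subset_closure hg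
  refine H11.Sp.eq_top_of_tv_mem fun w hw c => ?_
  rcases (by decide : ∀ c : ZMod 2, c = 0 ∨ c = 1) c with rfl | rfl
  · rw [H11.Sp.tv_zero]; exact one_mem _
  obtain ⟨x, hx, rfl⟩ := exists_vec w
  have k : dig 6 (evm o6 S (Ws.getD x [])) 0 = x :=
    (by decide +kernel : ∀ x, x < 64 → vec x ≠ 0 → dig 6 (evm o6 S (Ws.getD x [])) 0 = x) x hx hw
  rw [← k, ← (rep_w _).col, ← H11.Sp.conj_tv, ← ps_eq]
  exact mul_mem (mul_mem (ev_mem hM _) (mul_mem (hM _ (by simp [M])) (hM _ (by simp [M]))))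
    (inv_mem (ev_mem hM _))

theorem card_G6 : Nat.card G6 = 1451520 := by
  rw [H11.Sp.card_G, Nat.card_zmod]
  decide +kernel

theorem comm_v {z : G6} (h : z * mA = mA * z) : z * (mb * mb) = mb * mb * z := by
  have k : ∀ x : V6, Cfsg.sympForm 3 (ZMod 2) x (mA.1 *ᵥ x) = Cfsg.sympForm 3 (ZMod 2) x (bb 1) := by
    intro x
    obtain ⟨x, hx, rfl⟩ := exists_vec x
    rw [H11.Sp.form_eq_sum, H11.Sp.form_eq_sum]
    revert x
    decide +kernel
  have e : z.1 *ᵥ bb 1 = bb 1 := by
    rw [← sub_eq_zero]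
    refine H11.Sp.eq_zero_of_form_eq_zero (m := 3) fun y => ?_
    rw [H11.Sp.form_swap, ← H11.Sp.mulVec_inv_mulVec z y, H11.Sp.form_sub_right,
      H11.Sp.form_apply, ← k, ← k, ← H11.Sp.coe_mul_mulVec mA z, ← h, H11.Sp.coe_mul_mulVec z mA,
      H11.Sp.form_apply, sub_self, neg_zero]
  have c := H11.Sp.conj_tv z (bb 1) 1
  rw [e, ← aev_eq, mul_inv_eq_iff_eq_mul, ← mul_assoc, h, mul_assoc, mul_assoc mA] at c
  exact mul_left_cancel c

theorem simple : IsSimpleGroup G6 := by
  have hc : center G6 = ⊥ := by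
    rw [← card_eq_one, H11.Sp.card_center (by norm_num), ZMod.card]
    rfl
  have : Nontrivial G6 := by
    rw [← Finite.one_lt_card_iff_nontrivial, card_G6]; norm_num
  refine ⟨fun N hN => (H11.Sp.normal_le_center_or N).imp (fun h => ?_) fun h => ?_⟩
  · exact le_bot_iff.1 (hc ▸ h)
  · exact top_le_iff.1 (H11.Sp.commutator_eq_top_of_three_le (F := ZMod 2) le_rfl ▸ h)

end H30.CM.SpM
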