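import Mathlib
import Cfsg.Agent.Base
import Cfsg.Agent.Lib.Co3M.P13
import Cfsg.Agent.Lib.Co3M.SpM

/-!
# The presentation of `Sp₆(2)` over the group of order 9216 (helper4)
-/

set_option autoImplicit false
set_option maxRecDepth 100000
set_option linter.unusedSectionVars false

namespace H30.CM

open Subgroup H69 Cfsg H70.TM

/-- the symplectic group -/
abbrev Sp6 : Type := Matrix.symplecticGroup (Fin 3) (ZMod 2)

theorem sp6_simple : IsSimpleGroup Sp6 := SpM.simple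

namespace SpM
open H18.TC

/-- the words for the action of the complement -/
def aw : List (List (List ℕ)) :=
  [[[0, 6, 2], [4, 4, 8], [2, 10, 0], [2, 4, 4, 6, 8], [2, 4, 4], [0, 2, 6, 8, 4]],
  [[0], [2], [6, 2, 4, 6], [6], [0, 8, 0], [8, 10]],
  [[8, 10, 4], [0, 4, 10, 2, 6], [6, 4, 8], [2, 4, 8], [8, 0, 4], [0, 6, 10, 2, 8]],
  [[2, 10, 4], [0, 4, 6, 8, 10], [0, 2, 10], [8, 4], [0, 2, 4, 8], [6, 8, 10, 4]]]

theorem ev_shift {G : Type*} [Group G] (l l' : List G) (w : List ℕ) :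
    ev (lt (l ++ l')) (w.map (· + 2 * l.length)) = ev (lt l') w := by
  induction w with
  | nil => rfl
  | cons x w ih =>
    rw [List.map_cons, ev_cons, ev_cons, ih, lt, lt, show (x + 2 * l.length) % 2 = x % 2 by omega,
      List.getD_append_right _ _ _ _ (by omega),
      show (x + 2 * l.length) / 2 - l.length = x / 2 by omega]

open P in
theorem exists_mu : ∃ μ : E →* G6, [e, a, b, s, p, q, n, w, c, d].map μ = M.take 10 := by
  obtain ⟨f, f0, f1, f2, f3, f4, f5⟩ := R11.model (R11.Rel.of_sat (e := me) (a := ma) (b := mb)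
    (s := ms) (p := mp) (q := mq) fun R hR =>
      (ev_append_of_lt [me, ma, mb, ms, mp, mq] [mn, mw, mc, md, my] R
        ((by decide +kernel : ∀ R ∈ R11E.rels, ∀ x ∈ R, x < 12) R hR)).symm.trans
        (ev_eq_one (L := R11E.rels) (by decide +kernel) R hR))
  obtain ⟨g, g0, g1, g2, g3⟩ := K36.model (K36.Rel.of_sat (n := mn) (w := mw) (c := mc)
    (d := md) fun R hR => by
      rw [← ev_append_of_lt [mn, mw, mc, md] [my] R
        ((by decide +kernel : ∀ R ∈ K36E.rels, ∀ x ∈ R, x < 8) R hR),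
        ← ev_shift [me, ma, mb, ms, mp, mq]]
      exact ev_eq_one (L := K36E.rels.map (List.map (· + 12))) (by decide +kernel) _
        (List.mem_map_of_mem hR))
  have hf : ∀ i, i < 6 → f (El.of R11.tb (i + 1)) = lt M (2 * i) := fun i hi => by
    interval_cases i
    exacts [f0, f1, f2, f3, f4, f5]
  have hg : ∀ k, k < 4 → g (El.of K36.tb (k + 1)) = lt M (2 * k + 12) := fun k hk => by
    interval_cases k
    exacts [g0, g1, g2, g3]
  have hl : [R11.e, R11.a, R11.b, R11.s, R11.p, R11.q].map f = [me, ma, mb, ms, mp, mq] := by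
    simp only [List.map, f0, f1, f2, f3, f4, f5]
  have h : ∀ k r, g k * f r * (g k)⁻¹ = f (α.act k r) := compat fun k hk a ha => by
    obtain ⟨k, hk', rfl⟩ : ∃ j, j < 4 ∧ k = j + 1 :=
      (by decide +kernel : ∀ k ∈ K36.tb.gs, ∃ j, j < 4 ∧ k = j + 1) k hk
    obtain ⟨a, ha', rfl⟩ : ∃ j, j < 6 ∧ a = j + 1 :=
      (by decide +kernel : ∀ k ∈ R11.tb.gs, ∃ j, j < 6 ∧ k = j + 1) a ha
    obtain ⟨e1, e2, e3⟩ := (by decide +kernel : ∀ k, k < 4 → ∀ a, a < 6 →
      α.act (El.of K36.tb (k + 1)) (El.of R11.tb (a + 1)) =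
        ev (lt [R11.e, R11.a, R11.b, R11.s, R11.p, R11.q]) ((aw.getD k []).getD a []) ∧
      (∀ x ∈ (aw.getD k []).getD a [], x < 12) ∧
      evm o6 SpM.S [2 * a, 2 * k + 12] = evm o6 SpM.S ((2 * k + 12) :: (aw.getD k []).getD a []))
      k hk' a ha'
    have e4 := ev_eq e3
    rw [ev_cons, ev_single, ev_cons] at e4
    rw [Act, e1, hom_ev, hl, hf a ha', hg k hk', e4, mul_inv_cancel_right]
    exact ev_append_of_lt [me, ma, mb, ms, mp, mq] [mn, mw, mc, md, my] _ e2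
  refine ⟨lift α f g h, ?_⟩
  change [lift α f g h (inl α R11.e), lift α f g h (inl α R11.a), lift α f g h (inl α R11.b),
    lift α f g h (inl α R11.s), lift α f g h (inl α R11.p), lift α f g h (inl α R11.q),
    lift α f g h (inr α K36.n), lift α f g h (inr α K36.w), lift α f g h (inr α K36.c),
    lift α f g h (inr α K36.d)] = [me, ma, mb, ms, mp, mq, mn, mw, mc, md]
  simp only [lift_inl, lift_inr, f0, f1, f2, f3, f4, f5, g0, g1, g2, g3]

open P in
theorem sat_of {H : Type*} [Group H] (ψ : E →* H) (y : H) (ht : ψ t = 1)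
    (y3 : y * y * y = 1) (yb : ψ (s * b) * y * ψ (s * b) = y⁻¹)
    (hJ : List.Forall₂ (Act ψ y) [e, a, s, u, v, p] [e, a * s * u * v, u, s * u, a * s, p * s * u])
    (yf : Act ψ y f i) (r1 : (ψ (c * d) * y) ^ 3 = 1)
    (r2 : (ψ (c * d⁻¹ * s * i * a) * y * ψ (s * b)) ^ 4 = 1) :
    ∀ R ∈ SpE.rels, ev (lt ([e, a, b, s, p, q, n, w, c, d].map ψ ++ [y])) R = 1 := by
  intro R hR
  rw [← List.take_append_drop 54 SpE.rels, List.mem_append] at hR
  rcases hR with hR | hR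
  · obtain ⟨h1, h2⟩ := (by decide +kernel : ∀ R ∈ SpE.rels.take 54, (∀ x ∈ R, x < 20) ∧
      ev (lt [e, a, b, s, p, q, n, w, c, d]) R = 1) R hR
    rw [ev_append_of_lt _ _ _ h1, ← hom_ev, h2, map_one]
  revert R
  obtain ⟨d1, d2, d3, d4, d5⟩ := defs
  simp only [List.forall₂_cons, Act, d1, d2, d3, d4, d5, map_mul, map_inv, pow_succ, pow_zero]
    at ht yb hJ yf r1 r2
  obtain ⟨k1, k2, k3, k4, k5, k6, -⟩ := hJ
  simp only [List.map, List.cons_append, List.nil_append]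
  generalize ψ e = e at *
  generalize ψ a = a at *
  generalize ψ b = b at *
  generalize ψ s = s at *
  generalize ψ p = p at *
  generalize ψ q = q at *
  generalize ψ n = n at *
  generalize ψ w = w at *
  generalize ψ c = c at *
  generalize ψ d = d at *
  refine List.forall_mem_cons.2 ⟨show a * (a * 1) = 1 by
      simpa only [mul_one] using ht,
    List.forall_mem_cons.2 ⟨show y * (y * (y * 1)) = 1 by
      simpa only [mul_assoc, mul_one] using y3,
    List.forall_mem_cons.2 ⟨show y * (e * (y⁻¹ * (e⁻¹ * 1))) = 1 by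
      simpa only [mul_assoc, mul_one] using mul_inv_eq_one.2 k1,
    List.forall_mem_cons.2 ⟨show y * (a * (y⁻¹ * (b⁻¹ * (b⁻¹ * (e⁻¹ * (w⁻¹ * (s⁻¹ *
        (a⁻¹ * 1)))))))) = 1 by
      simpa only [mul_assoc, mul_inv_rev, mul_one] using mul_inv_eq_one.2 k2,
    List.forall_mem_cons.2 ⟨show y * (s * (y⁻¹ * (e⁻¹ * (w⁻¹ * 1)))) = 1 by
      simpa only [mul_assoc, mul_inv_rev, mul_one] using mul_inv_eq_one.2 k3,
    List.forall_mem_cons.2 ⟨show y * (w * (e * (y⁻¹ * (e⁻¹ * (w⁻¹ * (s⁻¹ * 1)))))) = 1 by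
      simpa only [mul_assoc, mul_inv_rev, mul_one] using mul_inv_eq_one.2 k4,
    List.forall_mem_cons.2 ⟨show y * (b * (b * (y⁻¹ * (s⁻¹ * (a⁻¹ * 1))))) = 1 by
      simpa only [mul_assoc, mul_inv_rev, mul_one] using mul_inv_eq_one.2 k5,
    List.forall_mem_cons.2 ⟨show y * (p * (y⁻¹ * (e⁻¹ * (w⁻¹ * (s⁻¹ * (p⁻¹ * 1)))))) = 1 by
      simpa only [mul_assoc, mul_inv_rev, mul_one] using mul_inv_eq_one.2 k6,
    List.forall_mem_cons.2 ⟨show y * (q * (b * (a * (y⁻¹ * (b⁻¹ * (b⁻¹ * (n⁻¹ * 1))))))) = 1 by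
      simpa only [mul_assoc, mul_inv_rev, mul_one] using mul_inv_eq_one.2 yf,
    List.forall_mem_cons.2 ⟨show s * (b * (y * (s * (b * (y * 1))))) = 1 by
      simpa only [mul_assoc, inv_inv, mul_one] using mul_inv_eq_one.2 yb,
    List.forall_mem_cons.2 ⟨show c * (d * (y * (c * (d * (y * (c * (d * (y * 1)))))))) = 1 by
      simpa only [mul_assoc, one_mul, mul_one] using r1,
    List.forall_mem_cons.2 ⟨show c * (d⁻¹ * (s * (n * (b * (b * (a * (y * (s * (b *
        (c * (d⁻¹ * (s * (n * (b * (b * (a * (y * (s * (b *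
        (c * (d⁻¹ * (s * (n * (b * (b * (a * (y * (s * (b *
        (c * (d⁻¹ * (s * (n * (b * (b * (a * (y * (s * (b * 1)))))))))))))))))))))))))))))))))))))))
        = 1 by
      simpa only [mul_assoc, one_mul, mul_one] using r2,
    fun _ h => absurd h List.not_mem_nil⟩⟩⟩⟩⟩⟩⟩⟩⟩⟩⟩⟩

theorem bound {G : Type*} [Group G] [Finite G] {l : List G} (hl : l.length = 11)
    (h : ∀ R ∈ SpE.rels, ev (lt l) R = 1) {K : Subgroup G} (hK : ∀ i < 10, lt l (2 * i) ∈ K)
    (hc : Nat.card K ≤ 4608) : Nat.card (closure {g | g ∈ l}) ≤ 1451520 := by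
  obtain ⟨pt, e, -, hT⟩ := SpE.enum (lt l) ((1 : G) : G ⧸ K)
    (lt_icol _ _ (k := 11) hl (by decide +kernel)) (lt_ge (by omega)) h fun w hw => by
      obtain ⟨i, hi, rfl⟩ := (by decide +kernel : ∀ w ∈ SpE.subs, ∃ i, i < 10 ∧ w = [2 * i]) w hw
      rw [ev_single]
      exact H74.JJ.smul_one_coset.2 (hK i hi)
  exact (card_closure_le (l := l) (n := 315) (by norm_num) e (by rw [hl]; exact hT)).trans
    (Nat.mul_le_mul_right 315 hc)

theorem sat_zip {G H : Type*} [Group G] [Group H] {l : List G} {l' : List H} {L : List (List ℕ)}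
    (e : l.length = l'.length) (h : ∀ R ∈ L, ev (lt l) R = 1) (h' : ∀ R ∈ L, ev (lt l') R = 1) :
    ∀ R ∈ L, ev (lt (l.zip l')) R = 1 := fun R hR => by
  have a := hom_ev (MonoidHom.fst G H) (l.zip l') R
  have b := hom_ev (MonoidHom.snd G H) (l.zip l') R
  rw [show (l.zip l').map (MonoidHom.fst G H) = l from List.map_fst_zip e.le, h R hR] at a
  rw [show (l.zip l').map (MonoidHom.snd G H) = l' from List.map_snd_zip e.ge, h' R hR] at b
  exact Prod.ext a b

end SpM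

open P in
theorem sp_hom {H : Type*} [Group H] [Finite H] (ψ : E →* H) (y : H) (ht : ψ t = 1)
    (y3 : y * y * y = 1) (yb : ψ (s * b) * y * ψ (s * b) = y⁻¹)
    (hJ : List.Forall₂ (Act ψ y) [e, a, s, u, v, p] [e, a * s * u * v, u, s * u, a * s, p * s * u])
    (yf : Act ψ y f i) (r1 : (ψ (c * d) * y) ^ 3 = 1)
    (r2 : (ψ (c * d⁻¹ * s * i * a) * y * ψ (s * b)) ^ 4 = 1) :
    ∃ (θ : Sp6 →* H) (μ : E →* Sp6), (∀ g, θ (μ g) = ψ g) ∧ y ∈ θ.range ∧
      ∀ z : Sp6, z * μ (a * e) = μ (a * e) * z → z * μ v = μ v * z := by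
  obtain ⟨μ, hμ⟩ := SpM.exists_mu
  have hs := SpM.sat_of ψ y ht y3 yb hJ yf r1 r2
  have hμ' := hμ
  simp only [List.map, SpM.M, List.take, List.cons.injEq, and_true] at hμ'
  obtain ⟨m0, m1, m2, m3, m4, m5, m6, m7, m8, m9⟩ := hμ'
  have hz : SpM.M.zip ([e, a, b, s, p, q, n, w, c, d].map ψ ++ [y]) =
      [e, a, b, s, p, q, n, w, c, d].map (μ.prod ψ) ++ [(SpM.my, y)] := by
    simp only [List.map, MonoidHom.prod_apply, m0, m1, m2, m3, m4, m5, m6, m7, m8, m9]
    rfl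
  have hk : 2 ≤ Nat.card (μ.prod ψ).ker := by
    refine Finite.one_lt_card_iff_nontrivial.2 ((nontrivial_iff_exists_ne_one _).2
      ⟨t, Prod.ext ?_ ht, by decide +kernel⟩)
    have := SpM.sat [2, 2] (by decide +kernel)
    rw [H18.TC.ev_cons, H18.TC.ev_single] at this
    show μ t = 1
    rw [defs.1, map_mul, m1]
    exact this
  have hc : Nat.card (μ.prod ψ).range ≤ 4608 := by
    have := (μ.prod ψ).ker.card_mul_index
    rw [index_ker, P.card] at this
    nlinarith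
  obtain ⟨θ, hθ⟩ := hom_of_card (p := SpM.M) (l := [e, a, b, s, p, q, n, w, c, d].map ψ ++ [y]) rfl
    SpM.closure_M ((SpM.bound (K := (μ.prod ψ).range) rfl (SpM.sat_zip (by rfl) SpM.sat hs) (fun j hj => by
      rw [hz, ← H18.TC.ev_single (lt _), SpM.ev_append_of_lt _ _ _ (by simp; omega), ← SpM.hom_ev]
      exact ⟨_, rfl⟩) hc).trans SpM.card_G6.ge)
  simp only [List.map, SpM.M, List.cons_append, List.nil_append, List.cons.injEq, and_true] at hθ
  obtain ⟨t0, t1, t2, t3, t4, t5, t6, t7, t8, t9, t10⟩ := hθ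
  refine ⟨θ, μ, fun g => ?_, ⟨_, t10⟩, fun z hz => ?_⟩
  · refine (P.eq_top (K := (θ.comp μ).eqLocus ψ) ?_).ge (mem_top g)
    simp only [List.forall_mem_cons, MonoidHom.eqLocus, mem_mk, Submonoid.mem_mk,
      Subsemigroup.mem_mk, MonoidHom.eqLocusM, Set.mem_setOf_eq, MonoidHom.comp_apply,
      m0, m1, m2, m3, m4, m5, m6, m7, m8, m9, t0, t1, t2, t3, t4, t5, t6, t7, t8, t9, true_and]
    exact fun _ h => absurd h List.not_mem_nil
  · rw [map_mul, m0, m1, SpM.ae_eq] at hz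
    rw [defs.2.1, map_mul, m2]
    exact SpM.comm_v hz

end H30.CM
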