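import Mathlib
import Cfsg.Agent.Base
import Cfsg.Agent.Lib.Co3M.Fin
import Cfsg.Agent.Lib.Co3M.Sp
import Cfsg.Agent.Lib.Core.PCore
import Cfsg.Agent.S1678

/-!
# The end of the proof: the centraliser of `t` is the double cover of `Sp₆(2)` (helper70)
-/

set_option autoImplicit false
set_option maxRecDepth 100000
set_option linter.unusedSectionVars false

namespace H30.CM

open Subgroup H69 Cfsg H70.TM

namespace End

/-- an involution without fixed points on a normal subgroup inverts it -/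
theorem inv_of_fpf {G : Type*} [Group G] [Finite G] {O : Subgroup G} [O.Normal] {r : G}
    (hr : r * r = 1) (h : ∀ g ∈ O, g * r = r * g → g = 1) {g : G} (hg : g ∈ O) :
    r * g * r⁻¹ = g⁻¹ := by
  have k := MonoidHom.FixedPointFree.coe_eq_inv_of_involutive (φ := MulAut.conjNormal (H := O) r)
    (fun g hg => Subtype.ext (h g g.2 (cj_iff.1 (congrArg Subtype.val hg)).symm))
    (fun g => Subtype.ext (by
      show r * (r * g * r⁻¹) * r⁻¹ = g
      calc _ = r * r * g * (r * r)⁻¹ := by group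
        _ = g := by rw [hr]; group))
  exact congrArg Subtype.val (congrFun k ⟨g, hg⟩)

theorem fin : P.v ≠ 1 ∧ P.v ≠ P.t ∧ P.t ≠ 1 ∧ P.t * P.t = 1 ∧ P.v * P.v = 1 ∧
    P.w * (P.t * P.v) * P.w⁻¹ = P.v := by decide +kernel

variable {G : Type*} [Group G] [Finite G] {φ : P.E →* G} {x y : G}

/-- the model as a subgroup of the centraliser -/
noncomputable def φ' (φ : P.E →* G) : P.E →* 𝐂₀(φ P.t) :=
  φ.codRestrict _ fun g => mem_c.2 (by rw [← map_mul, P.cen_t, map_mul])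

/-- the projection modulo the centre -/
abbrev π (φ : P.E →* G) : 𝐂₀(φ P.t) →* 𝐂₀(φ P.t) ⧸ center 𝐂₀(φ P.t) := QuotientGroup.mk' _

theorem π_one (C : CA φ x y) {g : 𝐂₀(φ P.t)} :
    g ∈ center 𝐂₀(φ P.t) ↔ (g : G) = 1 ∨ (g : G) = φ P.t := by
  refine ⟨fun h => C.cJ fun z _ => (congrArg Subtype.val (mem_center_iff.1 h (φ' φ z))).symm, ?_⟩
  rintro (h | h)
  · rw [show g = 1 from Subtype.ext h]; exact one_mem _
  · exact mem_center_iff.2 fun k => Subtype.ext (by
      show (k : G) * g = g * k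
      rw [h]; exact mem_c.1 k.2)

theorem π_eq (C : CA φ x y) {g : 𝐂₀(φ P.t)} : π φ g = 1 ↔ (g : G) = 1 ∨ (g : G) = φ P.t :=
  (QuotientGroup.eq_one_iff g).trans (π_one C)

theorem πv (C : CA φ x y) : π φ (φ' φ P.v) ≠ 1 := fun h =>
  ((π_eq C).1 h).elim (fun h => fin.1 (C.inj (h.trans (map_one φ).symm))) fun h => fin.2.1 (C.inj h)

theorem act {m : 𝐂₀(φ P.t)} {u w : P.E} (h : Act φ m u w) : Act ((π φ).comp (φ' φ)) (π φ m) u w := by
  have k : m * φ' φ u * m⁻¹ = φ' φ w := Subtype.ext h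
  show π φ m * π φ (φ' φ u) * (π φ m)⁻¹ = π φ (φ' φ w)
  rw [← k, map_mul, map_mul, map_inv]

/-- the centraliser of `t` modulo its centre is the symplectic group -/
theorem iso (C : CA φ x y) : Nonempty ((𝐂₀(φ P.t) ⧸ center 𝐂₀(φ P.t)) ≃* Sp6) := by
  let y' : 𝐂₀(φ P.t) := ⟨y, mem_c.2 C.yt.fix⟩
  obtain ⟨θ, μ, h1, h2, h3⟩ := sp_hom ((π φ).comp (φ' φ)) (π φ y') ((π_eq C).2 (.inr rfl))
    (by rw [← map_mul, ← map_mul]; exact (π_eq C).2 (.inl C.y3))
    (by
      show π φ _ * π φ _ * π φ _ = _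
      rw [← map_mul, ← map_mul, ← map_inv]; exact congrArg _ (Subtype.ext C.yb))
    (C.yJ.imp fun _ _ h => act (m := y') h) (act (m := y') C.yf)
    (by
      show (π φ _ * π φ _) ^ 3 = 1
      rw [← map_mul, ← map_pow]; exact (π_eq C).2 C.r1)
    (by
      show (π φ _ * π φ _ * π φ _) ^ 4 = 1
      rw [← map_mul, ← map_mul, ← map_pow]; exact (π_eq C).2 C.r2)
  have hi : Function.Injective θ := by
    haveI := sp6_simple
    refine (MonoidHom.ker_eq_bot_iff θ).1 ((θ.normal_ker.eq_bot_or_eq_top).resolve_right fun h => ?_)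
    exact πv C ((h1 P.v).symm.trans (h.ge (mem_top (μ P.v))))
  have hX : (θ.range.comap (π φ)).map (Subgroup.subtype _) = 𝐂₀(φ P.t) := by
    refine C.fin ?_ ⟨y', h2, rfl⟩ (map_subtype_le _) ?_
    · rintro _ ⟨g, rfl⟩
      exact ⟨φ' φ g, ⟨μ g, h1 g⟩, rfl⟩
    rintro _ ⟨z, ⟨Z, hZ⟩, rfl⟩ hz
    have k1 : π φ (z * φ' φ (P.a * P.e) * z⁻¹ * (φ' φ (P.a * P.e))⁻¹) = 1 := by
      refine (π_eq C).2 (hz.imp (fun h => mul_inv_eq_one.2 h) fun h => mul_inv_eq_of_eq_mul (h.trans ?_))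
      rw [P.cen_t, map_mul]; rfl
    have k2 : Z * μ (P.a * P.e) = μ (P.a * P.e) * Z := by
      apply hi
      rw [map_mul, map_mul, map_inv, map_inv, map_mul, mul_inv_eq_one, cj_iff] at k1
      rw [map_mul, map_mul θ, h1, hZ]; exact k1
    have k3 : π φ (z * φ' φ P.v * z⁻¹ * (φ' φ P.v)⁻¹) = 1 := by
      have := congrArg θ (h3 Z k2)
      rw [map_mul, map_mul, h1, hZ] at this
      rw [map_mul, map_mul, map_inv, map_inv, map_mul, mul_inv_eq_one, cj_iff]; exact this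
    rcases (π_eq C).1 k3 with h | h
    · exact C.cv (mem_c.1 z.2) (cj_iff.1 (mul_inv_eq_one.1 h))
    · have k4 : Act φ z P.v (P.t * P.v) := by
        rw [Act, map_mul]; exact eq_mul_of_mul_inv_eq h
      have k5 := C.cv (mem_c.1 (φ' φ P.w * z).2) (k4.trans (Act.of_cj φ fin.2.2.2.2.2)).fix
      exact (mul_mem_cancel_left (⟨P.w, rfl⟩ : φ P.w ∈ φ.range)).1 k5
  refine ⟨(MulEquiv.ofBijective θ ⟨hi, fun h => ?_⟩).symm⟩
  obtain ⟨g, rfl⟩ := QuotientGroup.mk'_surjective _ h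
  obtain ⟨g', h', e⟩ := hX.ge g.2
  rwa [← show g' = g from Subtype.ext e]

theorem cover (C : CA φ x y) : IsNonsplitDoubleCover 𝐂₀(φ P.t) Sp6 := by
  have ht : φ' φ P.t ≠ 1 := fun h =>
    fin.2.2.1 (C.inj ((congrArg Subtype.val h).trans (map_one φ).symm))
  have hc : Nat.card (center 𝐂₀(φ P.t)) = 2 := by
    refine Nat.card_eq_two_iff.2 ⟨1, ⟨φ' φ P.t, (π_one C).2 (.inr rfl)⟩,
      fun h => ht (congrArg Subtype.val h).symm, Set.eq_univ_of_forall fun g => ?_⟩
    exact ((π_one C).1 g.2).imp (fun h => Subtype.ext (Subtype.ext h)) fun h =>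
      Subtype.ext (Subtype.ext h)
  refine ⟨hc, iso C, fun L hL => ht ?_⟩
  have h := mul_self_mem_of_index_two (hL.index_eq_card.trans hc) (φ' φ P.a)
  rw [← map_mul, ← P.defs.1] at h
  exact (Subgroup.disjoint_def.1 hL.disjoint) ((π_one C).2 (.inr rfl)) h

theorem cen (C : CA φ x y) : center G = ⊥ := by
  refine eq_bot_iff.2 fun g hg => ?_
  rcases C.cJ (g := g) fun z _ => (mem_center_iff.1 hg _).symm with h | h
  · exact h
  · exact absurd (C.inj (C.xt.eq.symm.trans (cj_iff.2 (mem_center_iff.1 (h ▸ hg) x)))) fin.2.1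

theorem odd (C : CA φ x y) : oddCore G = ⊥ := by
  haveI : (oddCore G).Normal := inferInstance
  have h2 : ∀ g ∈ oddCore G, g * g = 1 → g = 1 := fun g hg h => by
    have := H1.coprime_orderOf_of_mem_pPrimeCore hg
    exact orderOf_eq_one_iff.1 (this.eq_one_of_dvd (orderOf_dvd_of_pow_eq_one (by rw [sq, h])))
  have tt : φ P.t * φ P.t = 1 := by rw [← map_mul, fin.2.2.2.1, map_one]
  have vv : φ P.v * φ P.v = 1 := by rw [← map_mul, fin.2.2.2.2.1, map_one]
  have nt : φ P.t ∉ oddCore G := fun h => fin.2.2.1 (C.inj ((h2 _ h tt).trans (map_one φ).symm))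
  have h3 : ∀ g ∈ oddCore G, g * φ P.t = φ P.t * g → g = 1 := by
    obtain ⟨ι⟩ := iso C
    haveI := sp6_simple
    haveI := ι.isSimpleGroup
    have hn : (((oddCore G).comap (Subgroup.subtype 𝐂₀(φ P.t))).map (π φ)).Normal :=
      Normal.map inferInstance _ (QuotientGroup.mk'_surjective _)
    intro g hg h
    rcases hn.eq_bot_or_eq_top with k | k
    · exact ((π_eq C (g := ⟨g, mem_c.2 h⟩)).1 (k.le ⟨_, hg, rfl⟩)).resolve_right fun e => nt (e ▸ hg)
    · obtain ⟨m, hm, e⟩ := k.ge (mem_top (π φ (φ' φ P.v)))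
      have k2 : π φ (m * m) = 1 := by
        rw [map_mul, e, ← map_mul, ← map_mul, fin.2.2.2.2.1, map_one, map_one]
      rcases (π_eq C).1 k2 with k3 | k3
      · exact absurd (e.symm.trans ((π_eq C).2 (.inl (h2 _ hm k3)))) (πv C)
      · exact absurd (k3 ▸ mul_mem hm hm) nt
  have h4 : ∀ {k : G} {r : P.E}, Act φ k r P.t → ∀ g ∈ oddCore G, g * φ r = φ r * g → g = 1 := by
    intro k r hk g hg h
    have := h3 _ (Normal.conj_mem inferInstance g hg k) (by rw [← hk.eq]; exact cj_comm k h)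
    simpa using this
  refine eq_bot_iff.2 fun g hg => h4 ((Act.of_cj φ fin.2.2.2.2.2).trans C.xt.symm) g hg ?_
  have k1 := inv_of_fpf vv (h4 C.xt.symm) hg
  have k2 := inv_of_fpf tt h3 (inv_mem hg)
  rw [map_mul]
  exact (cj_iff.1 ((cj_trans k1 k2).trans (inv_inv g))).symm

end End

theorem CA.co3 {G : Type*} [Group G] [Finite G] {φ : P.E →* G} {x y : G} (C : CA φ x y) :
    Spor.IsoCo3 G := by
  refine Cfsg.Agent.S1678.result (End.odd C) (End.cen C) (φ P.t) (orderOf_eq_prime ?_ fun h => ?_)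
    (End.cover C)
  · rw [sq, ← map_mul, End.fin.2.2.2.1, map_one]
  · exact End.fin.2.2.1 (C.inj (h.trans (map_one φ).symm))

end H30.CM
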