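import Mathlib
import Cfsg.Agent.Base
import Cfsg.Agent.Lib.M12C.Tab

/-! a group of order 36 (helper30; generated) -/

set_option autoImplicit false
set_option maxRecDepth 100000

namespace H30.CM.K36E
open H54 (Tr force band)
open H18.TC
noncomputable def T_0 : Tr := (.node (nat_lit 1) (.node (nat_lit 0) (.leaf (nat_lit 0x3d40c693154a4ac21f02fe077a09f402d000027744bfd096236e396473c8a5a94f500d2000093f9379675ac2bccd99a732d685bd001680004358d0b491e10ff1ee03fc08db907700960001217312f08fe47ec2d88531126c27d801680001d6018c4e191af302fe07fc15c0378001e0000b1a1435136c2adc19c03f800fe03fc000000026724ae889d84bc047a06f409f00be)) (.leaf (nat_lit 0x1e00007988e7d3f40d68881d8fbb1ad237a401680000bfa3bc0f10c76309f815f039406a800960000f901da136e66ff4e9c9c795556b0ac00000006a45208cd9e9bb2357465e8d1518ea00d20000aba95fe5e48f498c1517aa2e7459e8034800027fc56d12d2c0275656adaca9c9479005a000181225e5166e25f83f40868147823f00258000794cfd9c53f0af6185233a485d917b))) (.node (nat_lit 2) (.leaf (nat_lit 0x1e00005d487785ab8a17845b08360ce21bc402d000019702da1c4ec41f1a6e2fdc7180db0005a000164e38dd535661e0bba17f4326667cc025800053bd0a7d47c296a576aabd55f92a72005a0001a36a17b465c83e4ff020607c4ef69c025800067f6d2b1977b37a6c44db89d933be6005a00018f7a3fc47728bb10f0a2614a4a9294025800061f8c8b983d332d8dc7168d9523164))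 (.node (nat_lit 3) (.leaf (nat_lit 0xd20000f309ef26cc47dc1056202c833f0b7c03480003ae47a823119df1455c88b93cf27de00b40002351b4f36ae0da81b96b5ed703ade7400780008fe7198a3d8c5e18adf1cbe22e44dc005a00017b2aff6774cbbd16ee2e5c635ec9bc00780004c6cbe91f53a5754e3c9a7923724ee005a0001f93bc7779e8ed91ceeba5d785aebb400780007f6efb99ffabe65823f027deb63dec)) (.leaf (nat_lit 0xb40001cceac6a59bcb6a17522e248a47128c00780007254e57210fb869754ce899bb137e2005a00021cfaa2b5150b471332a6e550429d84016800084d70d7a1f4c1dd80cf039e1904160)))))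
noncomputable def J_0 : Tr := (.node (nat_lit 1) (.node (nat_lit 0) (.leaf (nat_lit 0x200000000000040008008000001001000000800000100000040010010008000000000001000000200000000000000018008004000002000000000100100100000000000010000000000000000e00200100000040000000000000000000001400400200000000000000000000000000000)) (.leaf (nat_lit 0x4000000000000100100080000040010000006002001000000000000000040040040000020000000000000000000000000000080010010004004002000000000000000000180020020000000000000001000000c0000000018000003001000800000400000000060020020000010000002))) (.node (nat_lit 2) (.leaf (nat_lit 0x4001001800000100100080000010010000000000003000000000000000180000030010008000002000000800200200200000100020040000004006000000c0040020000000000002000800800800000300000080000010018000003001000800000000000080020020000008000000004)) (.node (nat_lit 3) (.leaf (nat_lit 0x4004002001002000000000000100020020000000010000000000000800000080080040000000018000000000000800800000300080020020010000008002000000c0040020000018000000000000000c00000080080040000000010004003001000800000400000000080020030000002002001))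 (.leaf (nat_lit 0x200200100000000000000000000000003000000c00000080080040000000000000001001000800000400000100080020018008004000002)))))
noncomputable def F_0 : Tr := (.node (nat_lit 3) (.node (nat_lit 1) (.node (nat_lit 0) (.leaf (nat_lit 0x71d79f8218a341149338f30d61969b5975151460c408a2c8247001)) (.leaf (nat_lit 0x71d79f8218a341149338f30d61969b5975151460c408a2c8247001))) (.node (nat_lit 2) (.leaf (nat_lit 0x6d96984d14908e18a02482ca7dd79c1031855545d604d30f3801c2)) (.leaf (nat_lit 0x6d96984d14908e18a02482ca7dd79c1031855545d604d30f3801c2)))) (.node (nat_lit 5) (.node (nat_lit 4) (.leaf (nat_lit 0x5d68e23ce7de2ca6da8601d51854d275c08d65804951140010c203)) (.leaf (nat_lit 0x8605d675c3ce6582ca8e25074501857de3026da20155348300d244))) (.node (nat_lit 6) (.leaf (nat_lit 0x56352135f31d25b2191d78a01130d108f79c04b69858019240e285)) (.leaf (nat_lit 0x89581478d70c6896085878e14844033827dd2816d95c501344f2c6)))))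
noncomputable def T : Tr := T_0
noncomputable def J : Tr := J_0
noncomputable def F : Tr := F_0
noncomputable def row (u : ℕ) : ℕ := Nat.land (Nat.shiftRight (force (Nat.shiftRight u (nat_lit 3)) T.get) (Nat.mul (Nat.land u (nat_lit 7)) (nat_lit 150))) (nat_lit 0x3fffffffffffffffffffffffffffffffffffff)
noncomputable def jrow (u : ℕ) : ℕ := Nat.land (Nat.shiftRight (force (Nat.shiftRight u (nat_lit 3)) J.get) (Nat.mul (Nat.land u (nat_lit 7)) (nat_lit 117))) (nat_lit 0x1fffffffffffffffffffffffffffff)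
noncomputable def fget (k fx : ℕ) : ℕ := F.get (Nat.add k fx)
noncomputable def wt0 : LT := (.node (nat_lit 0) (.leaf 1 0 [nat_lit 15])
(.node (nat_lit 1) (.leaf 5 1 [nat_lit 45, nat_lit 0, nat_lit 30])
(.node (nat_lit 2) (.leaf 15 3 [nat_lit 105, nat_lit 15, nat_lit 105])
(.node (nat_lit 3) (.leaf 13 3 [nat_lit 75, nat_lit 15, nat_lit 75])
(.leaf 0 0 [])))))
noncomputable def wt1 : LT := (.node (nat_lit 0) (.leaf 5 3 [nat_lit 30, nat_lit 15, nat_lit 45])
(.leaf 0 0 []))
noncomputable def wt2 : LT := (.node (nat_lit 0) (.leaf 3 0 [nat_lit 45])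
(.node (nat_lit 1) (.leaf 5 2 [nat_lit 0, nat_lit 30, nat_lit 15])
(.node (nat_lit 2) (.leaf 17 3 [nat_lit 90, nat_lit 45, nat_lit 75])
(.node (nat_lit 3) (.leaf 17 1 [nat_lit 75, nat_lit 45, nat_lit 90])
(.leaf 0 0 [])))))
noncomputable def wt3 : LT := (.node (nat_lit 0) (.leaf 5 0 [nat_lit 15, nat_lit 45, nat_lit 0])
(.leaf 0 0 []))
noncomputable def wt4 : LT := (.node (nat_lit 0) (.leaf 17 2 [nat_lit 45, nat_lit 90, nat_lit 45])
(.node (nat_lit 1) (.leaf 7 0 [nat_lit 75, nat_lit 75])
(.node (nat_lit 2) (.leaf 13 0 [nat_lit 15, nat_lit 75, nat_lit 15])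
(.node (nat_lit 3) (.leaf 11 1 [nat_lit 105, nat_lit 60, nat_lit 90])
(.leaf 0 0 [])))))
noncomputable def wt5 : LT := (.node (nat_lit 0) (.leaf 11 3 [nat_lit 90, nat_lit 75, nat_lit 105])
(.leaf 0 0 []))
noncomputable def wt6 : LT := (.node (nat_lit 1) (.node (nat_lit 0) (.leaf 9 0 [nat_lit 105, nat_lit 105])
(.leaf 15 0 [nat_lit 15, nat_lit 105, nat_lit 15]))
(.node (nat_lit 2) (.leaf 11 2 [nat_lit 60, nat_lit 90, nat_lit 75])
(.leaf 0 0 [])))
noncomputable def wt7 : LT := (.node (nat_lit 0) (.leaf 11 0 [nat_lit 75, nat_lit 105, nat_lit 60])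
(.node (nat_lit 1) (.leaf 17 0 [nat_lit 45, nat_lit 75, nat_lit 45])
(.leaf 0 0 [])))
noncomputable def wt8 : LT := (.leaf 0 0 [])
noncomputable def sl : List (ℕ × ℕ × List ℕ × List ℕ) := []
/-- the inverse column -/
noncomputable def icol (x : ℕ) : ℕ := List.getD [nat_lit 1, nat_lit 0, nat_lit 3, nat_lit 2, nat_lit 5, nat_lit 4, nat_lit 7, nat_lit 6] x x
noncomputable def inv (x : ℕ) : ℕ := Nat.mul (icol (Nat.div x (nat_lit 15))) (nat_lit 15)
def cols : List ℕ := [nat_lit 120, nat_lit 0, nat_lit 15, nat_lit 30, nat_lit 45, nat_lit 60, nat_lit 75, nat_lit 90, nat_lit 105]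
noncomputable def cl : CL := (.cons (nat_lit 0) (nat_lit 15) (nat_lit 0) (nat_lit 0) wt0
(.cons (nat_lit 15) (nat_lit 0) (nat_lit 13) (nat_lit 1) wt1
(.cons (nat_lit 30) (nat_lit 45) (nat_lit 26) (nat_lit 2) wt2
(.cons (nat_lit 45) (nat_lit 30) (nat_lit 39) (nat_lit 3) wt3
(.cons (nat_lit 60) (nat_lit 75) (nat_lit 52) (nat_lit 4) wt4
(.cons (nat_lit 75) (nat_lit 60) (nat_lit 65) (nat_lit 5) wt5
(.cons (nat_lit 90) (nat_lit 105) (nat_lit 78) (nat_lit 6) wt6
(.cons (nat_lit 105) (nat_lit 90) (nat_lit 91) (nat_lit 7) wt7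
.nil))))))))
def rels : List (List ℕ) := [[0, 0],
[2, 2],
[3, 1, 2, 0],
[4, 4, 4],
[6, 6, 6],
[7, 5, 6, 4],
[4, 0, 4, 0],
[6, 0, 6, 0],
[7, 2, 4, 2]]
def subs : List (List ℕ) := []
noncomputable def chk : ℕ → Bool := rowChk row jrow fget sl cols (nat_lit 36) (nat_lit 36) (nat_lit 32767) (nat_lit 63) (nat_lit 32768) (nat_lit 120) (nat_lit 135) (nat_lit 8191) (nat_lit 6) (nat_lit 63) (nat_lit 6) (nat_lit 63) cl (nat_lit 104) wt8
theorem p0 : allB chk 6 0 = true := by decide +kernel
theorem all_chk : AllLt chk 36 := by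
  have h := AllLt.zero chk
  have h := h.step 36 p0 (by decide +kernel)
  exact h
/-- column `x` of the final table -/
noncomputable def tab (x u : ℕ) : ℕ := ft fget (nat_lit 6) (nat_lit 63) (nat_lit 6) (nat_lit 63) (Nat.mul x (nat_lit 1)) u
theorem enum {G Ω : Type*} [Group G] [MulAction G Ω] (g : ℕ → G) (ω : Ω)
    (hinv : ∀ x, g (icol x) = (g x)⁻¹) (h1 : g 8 = 1)
    (hrels : ∀ R ∈ rels, ev g R = 1) (hsubs : ∀ S ∈ subs, ev g S • ω = ω) :
    ∃ pt : ℕ → Ω, pt 0 = ω ∧ (∀ K : Subgroup G, (∀ x, g x ∈ K) → ∀ v, ∃ k ∈ K, pt v = k • ω) ∧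
      ∀ x, x < 8 → ∀ u, u < 36 → tab x u < 36 ∧ g x • pt u = pt (tab x u) :=
  sound_scaled g ω row jrow fget sl inv icol cols (nat_lit 36) (nat_lit 36) (nat_lit 32767) (nat_lit 63) (nat_lit 32768) (nat_lit 120) (nat_lit 135) (nat_lit 8191) (nat_lit 6) (nat_lit 63) (nat_lit 6) (nat_lit 63) 6 cl (nat_lit 104) wt8 rels subs 15 (nat_lit 1) 8
    (fun _ => Nat.mul_div_cancel _ (by decide)) hinv h1 hrels hsubs
    (by decide +kernel) (by decide +kernel) all_chk
end H30.CM.K36E

namespace H30.CM.K36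
open H70.TM H18.TC Subgroup

noncomputable def rt : RT := ⟨nat_lit 36, nat_lit 6, nat_lit 63,
  (.node (nat_lit 17) (.node (nat_lit 8) (.node (nat_lit 3) (.node (nat_lit 1) (.node (nat_lit 0) (.leaf (nat_lit 0x8e28607de75c6da6585d65544d24503ce34c2ca2481c61440c2040))
(.leaf (nat_lit 0x71f7948a146361731b6902603c87564c711918355238b08d285001)))
(.node (nat_lit 2) (.leaf (nat_lit 0x75761969b8d179f82188b28c38d7061d34945950c43d0048240142))
(.leaf (nat_lit 0x5a08d525039e65d3441e189f0855dc49a6d800151344a3cc2c8183))))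
(.node (nat_lit 5) (.node (nat_lit 4) (.leaf (nat_lit 0x4cf2128e02e218329d6421617de6d570005a61759435140e3091c4))
(.leaf (nat_lit 0x45a6cc5d871d86251e7c60d91c48cb38f22040928d4d6012541085)))
(.node (nat_lit 6) (.leaf (nat_lit 0x78941f8235d610761975c5154933a109130d28b88568021b04f0c6))
(.node (nat_lit 7) (.leaf (nat_lit 0x8a38213c86d37596860d55927142c27cd38a44c15e0182415d0107))
(.leaf (nat_lit 0x38710d75959740956380005869b78a44215f8622cc49c1935033c8))))))
(.node (nat_lit 12) (.node (nat_lit 10) (.node (nat_lit 9) (.leaf (nat_lit 0x2d974a0c64db8234883d85da00189135f7a108530e7151d4584409))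
(.leaf (nat_lit 0x4147095561e131110d39e7e21426a321761b04080f7434d91922ca)))
(.node (nat_lit 11) (.leaf (nat_lit 0x8555a251c69034e6cc46380920f1de15d6440c67c25c149801328b))
(.leaf (nat_lit 0x924c559502028b04e3483e325066278319d10785f6d771a61444c))))
(.node (nat_lit 14) (.node (nat_lit 13) (.leaf (nat_lit 0x3d348871419f2ca0d130509e8a16098c10176da42011d58765538d))
(.leaf (nat_lit 0x7dc51e4d260f44c5cb2894088e01858841c37590a105b54069634e)))
(.node (nat_lit 15) (.leaf (nat_lit 0x5dd6581c478e8e07d024a2cd44c5806924d571405b0a10c588620f))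
(.node (nat_lit 16) (.leaf (nat_lit 0x6c319a65d88b20f8608d130a34e4d801c5125565c17c211e147250))
(.leaf (nat_lit 0x81656349364238d74a2e284579f00825b6815d83d00c45061dc311)))))))
(.node (nat_lit 26) (.node (nat_lit 21) (.node (nat_lit 19) (.node (nat_lit 18) (.leaf (nat_lit 0x1ce34444c41a59525c50101b5d88437450a279f1992232cf80a4d2))
(.leaf (nat_lit 0x69131b38d8477148965431847594015c83c98e001815e2827cb493)))
(.node (nat_lit 20) (.leaf (nat_lit 0xd3812ca0995561534841dd0c68176c942320f61a7a245f84c714))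
(.leaf (nat_lit 0x18c44328b3d851c2124db6970407dd12285e1426478c93a040d595))))
(.node (nat_lit 23) (.node (nat_lit 22) (.leaf (nat_lit 0x60a2d73117c649379471d6431073db06380825068088536108e556))
(.leaf (nat_lit 0x56189614234869b3810208cf4090d35197461c449c2cc7ca45e617)))
(.node (nat_lit 24) (.leaf (nat_lit 0x20508f8620d504019a6d349651c36040b28e3118c964779d11f5d8))
(.node (nat_lit 25) (.leaf (nat_lit 0x1483c24090540c60071124dc55631f84a2d134e7a261a8d76e0759))
(.leaf (nat_lit 0x25e7d00851125d81c005471359528f80c44b38d2231998837616da))))))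
(.node (nat_lit 30) (.node (nat_lit 28) (.node (nat_lit 27) (.leaf (nat_lit 0x48215379f2890012d760f2108231145860c765d71530e85136269b))
(.leaf (nat_lit 0x64b29d34e8004d28d55976016da0840de7c58a11c62483103d151c)))
(.node (nat_lit 29) (.leaf (nat_lit 0x51025c20f3051c444319f7828620525585c069b4d628d80b3a365d))
(.leaf (nat_lit 0x34004e6da5430855a284710665d20c2d024f82344a51361c4977de))))
(.node (nat_lit 32) (.node (nat_lit 31) (.leaf (nat_lit 0xdb68600120d8a13c214c44e2ca5476547164d211d4205c98d879f))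
(.leaf (nat_lit 0x441c018314c25008f20d39128b51a61559c4936d785f7627998e0)))
(.node (nat_lit 33) (.leaf (nat_lit 0x10100761724a14241f78e34b31149919655351c74380f6e321a8a1))
(.node (nat_lit 34) (.leaf (nat_lit 0x2985cb0404847de4c509974718324e3208d03c835159469571b862))
(.leaf (nat_lit 0x3060d11075013c870941a6c061714d2a18827de38b5526564dd823)))))))),
  (nat_lit 0x51e8607e231c6d865a5c84a325544f40435d0ca4d61c614e2c2040),
  (nat_lit 0x7155144d244f34c30b2892482081851441030c3082041040000000),
  (nat_lit 0x431011040440c40441040440c11040c40440c11031030840c2041),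
  [nat_lit 1, nat_lit 2, nat_lit 3, nat_lit 4]⟩

theorem okA0 : rt.chkA 1 = true := by decide +kernel
theorem okA1 : rt.chkA 2 = true := by decide +kernel
theorem okA2 : rt.chkA 3 = true := by decide +kernel
theorem okA3 : rt.chkA 4 = true := by decide +kernel
theorem okB : rt.chkB = true := by decide +kernel
noncomputable def tb : GT := ⟨rt, List.forall_mem_cons.2 ⟨okA0, List.forall_mem_cons.2 ⟨okA1, List.forall_mem_cons.2 ⟨okA2, List.forall_mem_cons.2 ⟨okA3, fun _ h => absurd h List.not_mem_nil⟩⟩⟩⟩, okB⟩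

theorem hom_chk : homChk tb (nat_lit 0x7e17637a24e06516d268f5dc3556165062d010938c2881c50c2040) 36 K36E.tab = true := by decide +kernel

/-- the group -/
abbrev E : Type := El tb

noncomputable def n : E := El.of tb 1
noncomputable def w : E := El.of tb 2
noncomputable def c : E := El.of tb 3
noncomputable def d : E := El.of tb 4

theorem card : Nat.card E = 36 := El.card tb

theorem eq_top {K : Subgroup E} (h0 : n ∈ K) (h1 : w ∈ K) (h2 : c ∈ K) (h3 : d ∈ K) : K = ⊤ :=
  El.eq_top (List.forall_mem_cons.2 ⟨h0, List.forall_mem_cons.2 ⟨h1, List.forall_mem_cons.2 ⟨h2, List.forall_mem_cons.2 ⟨h3, fun _ h => absurd h List.not_mem_nil⟩⟩⟩⟩)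

/-- the relations -/
def Rel {G : Type*} [Group G] (n w c d : G) : Prop :=
  n * n = 1 ∧
  w * w = 1 ∧
  n * w = w * n ∧
  c * c * c = 1 ∧
  d * d * d = 1 ∧
  c * d = d * c ∧
  n * c * n = c⁻¹ ∧
  n * d * n = d⁻¹ ∧
  w * c * w = d

instance {G : Type*} [Group G] [DecidableEq G] (n w c d : G) : Decidable (Rel n w c d) := by
  unfold Rel; infer_instance

theorem Rel.map {G G' : Type*} [Group G] [Group G'] (f : G →* G') {n w c d : G}
    (h : Rel n w c d) : Rel (f n) (f w) (f c) (f d) := by
  obtain ⟨h0, h1, h2, h3, h4, h5, h6, h7, h8⟩ := h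
  exact ⟨by simpa only [map_mul, map_inv, map_one] using congrArg f h0,
    by simpa only [map_mul, map_inv, map_one] using congrArg f h1,
    by simpa only [map_mul, map_inv, map_one] using congrArg f h2,
    by simpa only [map_mul, map_inv, map_one] using congrArg f h3,
    by simpa only [map_mul, map_inv, map_one] using congrArg f h4,
    by simpa only [map_mul, map_inv, map_one] using congrArg f h5,
    by simpa only [map_mul, map_inv, map_one] using congrArg f h6,
    by simpa only [map_mul, map_inv, map_one] using congrArg f h7,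
    by simpa only [map_mul, map_inv, map_one] using congrArg f h8⟩

theorem Rel.of_map {G G' : Type*} [Group G] [Group G'] {f : G →* G'} (hf : Function.Injective f)
    {n w c d : G} (h : Rel (f n) (f w) (f c) (f d)) : Rel n w c d := by
  obtain ⟨h0, h1, h2, h3, h4, h5, h6, h7, h8⟩ := h
  exact ⟨hf (by simpa only [map_mul, map_inv, map_one] using h0),
    hf (by simpa only [map_mul, map_inv, map_one] using h1),
    hf (by simpa only [map_mul, map_inv, map_one] using h2),
    hf (by simpa only [map_mul, map_inv, map_one] using h3),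
    hf (by simpa only [map_mul, map_inv, map_one] using h4),
    hf (by simpa only [map_mul, map_inv, map_one] using h5),
    hf (by simpa only [map_mul, map_inv, map_one] using h6),
    hf (by simpa only [map_mul, map_inv, map_one] using h7),
    hf (by simpa only [map_mul, map_inv, map_one] using h8)⟩

theorem Rel.prod {G G' : Type*} [Group G] [Group G'] {n w c d : G} {n' w' c' d' : G'}
    (h : Rel n w c d) (k : Rel n' w' c' d') :
    Rel (n, n') (w, w') (c, c') (d, d') := by
  obtain ⟨h0, h1, h2, h3, h4, h5, h6, h7, h8⟩ := h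
  obtain ⟨k0, k1, k2, k3, k4, k5, k6, k7, k8⟩ := k
  exact ⟨Prod.ext h0 k0, Prod.ext h1 k1, Prod.ext h2 k2, Prod.ext h3 k3, Prod.ext h4 k4, Prod.ext h5 k5, Prod.ext h6 k6, Prod.ext h7 k7, Prod.ext h8 k8⟩

theorem Rel.sat {G : Type*} [Group G] {n w c d : G} (h : Rel n w c d) :
    ∀ R ∈ K36E.rels, ev (lt [n, w, c, d]) R = 1 := by
  obtain ⟨h0, h1, h2, h3, h4, h5, h6, h7, h8⟩ := h
  exact List.forall_mem_cons.2 ⟨show n * (n * 1) = 1 by
      simpa only [mul_assoc, mul_inv_rev, inv_inv, inv_one, mul_one, one_mul] using mul_inv_eq_one.2 h0,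
    List.forall_mem_cons.2 ⟨show w * (w * 1) = 1 by
      simpa only [mul_assoc, mul_inv_rev, inv_inv, inv_one, mul_one, one_mul] using mul_inv_eq_one.2 h1,
    List.forall_mem_cons.2 ⟨show n * (w * (n⁻¹ * (w⁻¹ * 1))) = 1 by
      simpa only [mul_assoc, mul_inv_rev, inv_inv, inv_one, mul_one, one_mul] using mul_inv_eq_one.2 h2,
    List.forall_mem_cons.2 ⟨show c * (c * (c * 1)) = 1 by
      simpa only [mul_assoc, mul_inv_rev, inv_inv, inv_one, mul_one, one_mul] using mul_inv_eq_one.2 h3,
    List.forall_mem_cons.2 ⟨show d * (d * (d * 1)) = 1 by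
      simpa only [mul_assoc, mul_inv_rev, inv_inv, inv_one, mul_one, one_mul] using mul_inv_eq_one.2 h4,
    List.forall_mem_cons.2 ⟨show c * (d * (c⁻¹ * (d⁻¹ * 1))) = 1 by
      simpa only [mul_assoc, mul_inv_rev, inv_inv, inv_one, mul_one, one_mul] using mul_inv_eq_one.2 h5,
    List.forall_mem_cons.2 ⟨show n * (c * (n * (c * 1))) = 1 by
      simpa only [mul_assoc, mul_inv_rev, inv_inv, inv_one, mul_one, one_mul] using mul_inv_eq_one.2 h6,
    List.forall_mem_cons.2 ⟨show n * (d * (n * (d * 1))) = 1 by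
      simpa only [mul_assoc, mul_inv_rev, inv_inv, inv_one, mul_one, one_mul] using mul_inv_eq_one.2 h7,
    List.forall_mem_cons.2 ⟨show w * (c * (w * (d⁻¹ * 1))) = 1 by
      simpa only [mul_assoc, mul_inv_rev, inv_inv, inv_one, mul_one, one_mul] using mul_inv_eq_one.2 h8,
    fun _ h => absurd h List.not_mem_nil⟩⟩⟩⟩⟩⟩⟩⟩⟩

theorem Rel.of_sat {G : Type*} [Group G] {n w c d : G}
    (h : ∀ R ∈ K36E.rels, ev (lt [n, w, c, d]) R = 1) : Rel n w c d := by
  obtain ⟨h0, h⟩ := List.forall_mem_cons.1 h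
  obtain ⟨h1, h⟩ := List.forall_mem_cons.1 h
  obtain ⟨h2, h⟩ := List.forall_mem_cons.1 h
  obtain ⟨h3, h⟩ := List.forall_mem_cons.1 h
  obtain ⟨h4, h⟩ := List.forall_mem_cons.1 h
  obtain ⟨h5, h⟩ := List.forall_mem_cons.1 h
  obtain ⟨h6, h⟩ := List.forall_mem_cons.1 h
  obtain ⟨h7, h⟩ := List.forall_mem_cons.1 h
  obtain ⟨h8, h⟩ := List.forall_mem_cons.1 h
  exact ⟨mul_inv_eq_one.1 (by simpa only [mul_assoc, mul_inv_rev, inv_inv, inv_one, mul_one, one_mul] using (show n * (n * 1) = 1 from h0)),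
    mul_inv_eq_one.1 (by simpa only [mul_assoc, mul_inv_rev, inv_inv, inv_one, mul_one, one_mul] using (show w * (w * 1) = 1 from h1)),
    mul_inv_eq_one.1 (by simpa only [mul_assoc, mul_inv_rev, inv_inv, inv_one, mul_one, one_mul] using (show n * (w * (n⁻¹ * (w⁻¹ * 1))) = 1 from h2)),
    mul_inv_eq_one.1 (by simpa only [mul_assoc, mul_inv_rev, inv_inv, inv_one, mul_one, one_mul] using (show c * (c * (c * 1)) = 1 from h3)),
    mul_inv_eq_one.1 (by simpa only [mul_assoc, mul_inv_rev, inv_inv, inv_one, mul_one, one_mul] using (show d * (d * (d * 1)) = 1 from h4)),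
    mul_inv_eq_one.1 (by simpa only [mul_assoc, mul_inv_rev, inv_inv, inv_one, mul_one, one_mul] using (show c * (d * (c⁻¹ * (d⁻¹ * 1))) = 1 from h5)),
    mul_inv_eq_one.1 (by simpa only [mul_assoc, mul_inv_rev, inv_inv, inv_one, mul_one, one_mul] using (show n * (c * (n * (c * 1))) = 1 from h6)),
    mul_inv_eq_one.1 (by simpa only [mul_assoc, mul_inv_rev, inv_inv, inv_one, mul_one, one_mul] using (show n * (d * (n * (d * 1))) = 1 from h7)),
    mul_inv_eq_one.1 (by simpa only [mul_assoc, mul_inv_rev, inv_inv, inv_one, mul_one, one_mul] using (show w * (c * (w * (d⁻¹ * 1))) = 1 from h8))⟩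

theorem rel : Rel n w c d := by decide +kernel

theorem model {G : Type*} [Group G] {n' w' c' d' : G} (h : Rel n' w' c' d') :
    ∃ φ : E →* G, φ n = n' ∧ φ w = w' ∧ φ c = c' ∧ φ d = d' := by
  obtain ⟨pt, h0, -, hT⟩ := K36E.enum (lt [n', w', c', d']) (1 : G)
    (lt_icol _ _ (k := 4) rfl (by decide +kernel)) (lt_ge le_rfl) h.sat
    (fun _ h => absurd h List.not_mem_nil)
  obtain ⟨φ, hφ⟩ := exists_hom tb (l := [n', w', c', d']) rfl h0 hT hom_chk
  exact ⟨φ, by simpa only [List.cons.injEq, and_true] using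
    (show [φ n, φ w, φ c, φ d] = [n', w', c', d'] from hφ)⟩

end H30.CM.K36
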