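import Mathlib
import Cfsg.Agent.Base
import Cfsg.Agent.Lib.Co3M.Kill
import Cfsg.Agent.Lib.Co3M.TR00
import Cfsg.Agent.Lib.Co3M.TK4

/-!
# The centraliser `2 × M₁₂`: tables for the wreathed case
-/

set_option autoImplicit false
set_option maxRecDepth 100000
set_option synthInstance.maxSize 2000
set_option linter.unusedSectionVars false

namespace H30.CM

open Subgroup H69 Cfsg H70.TM

namespace Wr
open R00

noncomputable def AT : H54.Tr :=
  (.node (nat_lit 1) (.node (nat_lit 0) (.leaf (nat_lit 0xfffefdfcfbfaf9f8f7f6f5f4f3f2f1f0efeeedecebeae9e8e7e6e5e4e3e2e1e0dfdedddcdbdad9d8d7d6d5d4d3d2d1d0cfcecdcccbcac9c8c7c6c5c4c3c2c1c0bfbebdbcbbbab9b8b7b6b5b4b3b2b1b0afaeadacabaaa9a8a7a6a5a4a3a2a1a09f9e9d9c9b9a999897969594939291908f8e8d8c8b8a898887868584838281807f7e7d7c7b7a797877767574737271706f6e6d6c6b6a696867666564636261605f5e5d5c5b5a595857565554535251504f4e4d4c4b4a494847464544434241403f3e3d3c3b3a393837363534333231302f2e2d2c2b2a292827262524232221201f1e1d1c1b1a191817161514131211100f0e0d0c0b0a09080706050403020100))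
(.leaf (nat_lit 0x2360617573b3cc5ebcf6f540789270dbc88ae9c654cbeda6a8b168b593e1e21da48b52dcf04c4d809f22267b5dd2ab86c353b9f9ea9ba9ef6cec769ccfc22a0863ba87f762becd5c91b6e421fa5be671af4b4f8fd1a1c9e790e89edfa35aaa56d7a56bc4ca392016551b9543e3f2b7a7ac127f3ddeee3b88bdd04a28778234d88d0d6931d43079f383c5fc2dfb72b0f16f6e6dc79d2e7de50b0a243abfbbfdfe42f8d3b8b2a22c5119a097ebcedd581fad27d9daae85180746474544945f13f43e3f8c3c89649a100936358132337c7a2f6a74592bc129844ed50165ffd6b499501ce01e961a574904981503418e1138020e7e0c676637c048060517140f2500)))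
(.node (nat_lit 2) (.leaf (nat_lit 0x6163238c81eb89eea9c2afe97414ea697af840c7faf1f45d9cb290523f4113b8adcfb5d27d9683cda024ce47a6dc629bded5d83b7086bc30ec6c76a88bf667ba600833c9abc080e0973cdda554e65b71f558df8dbb42f7c468d3b44f6f995fd7562184e7d04aa27cb7da458e3e0355e57f94acfcc35ef97932ca399dd936fbb98f64db9846ef882d4dc53df33411b0cba32b2fc6286af0a7c166227efed1ffbfa18ae81db12059ae579f91b326e44b50a44e771b519a1848d47b954412aae2ede39375b6cc0d851037823573bd8716c86d2e782c6e0b296b275325d6fd659e5a1f1e5c1c4c061949173115f2e14372380f0e3a0c2a0a09be071a050492020100))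
(.leaf (nat_lit 0xfdbfff3d34543b8ac9c2afed2d03cb7d305ef46cb37040d3c45ba7dd3e13415c4fc3e4d2691b77b956655346e8dcbbca8b268089f1d0f77ac6c7c5e7def60bbefec032a9d108d81d553c529eebb1b2b0f551a47f625fbc9ce55d21ad6f20429fa0b428a886855a31914c45123f1497688d438f75cff8cc79339b9a6b4d3673cdac3af01647c88874d9768c78811171eaa32b2fec842edb902a0ad60d60ab2363aaeea6e0e6992c4b19d7b7fad5b5ae1fdf278396583949077bd495448ea1e1e993e3fcb6f97e4a38098235fb87bd98ef6d6af3596e67299d4ece01226124a5a2501cb81eda065718047c1592e2947210020e640cc16637ba481a0517f20f2500))))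

theorem ok : TOk R00.tb K4.tb AT := by decide +kernel

noncomputable def α : Ac R00.E K4.E := ofTab _ _ AT ok

/-- the group of order 1024 -/
abbrev H : Type := SE α

noncomputable def el (i : ℕ) : H := ⟨El.of R00.tb i, El.of K4.tb (Nat.div i 256)⟩
noncomputable def gs : List E := [e, a, b, s, p, q]
noncomputable def lI : List E := [e * (a * s), p * a, q * b, p * s, p, q]
noncomputable def lU : List E := [e, a, a⁻¹ * b⁻¹, s, p, q⁻¹ * p⁻¹]
noncomputable def lX : List (List E) := [[e, b, a⁻¹ * b⁻¹, s, q, q⁻¹ * p⁻¹],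
  [e, b, a⁻¹ * b⁻¹, s, q * (a * a), q⁻¹ * p⁻¹ * (a * a) * (b * b)]]
noncomputable def C1 : List H := [1, 28, 30, 33, 37, 158, 165, 180].map el
noncomputable def C2 : List H := [9, 31, 55, 80, 93, 166, 211, 232].map el
noncomputable def C3 : List H := [34, 36, 38, 66, 83, 86, 95, 101, 159, 160, 161, 170, 206, 213, 214, 215].map el
noncomputable def C4 : List H :=
  [513, 521, 540, 542, 543, 549, 567, 592, 594, 606, 650, 693, 733, 740, 750, 760].map el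
noncomputable def O : List H := C1 ++ C2 ++ C3
def Oc : List ℕ := [0x1, 0x122, 0x124, 0x133, 0x142, 0x12233, 0x12334, 0x13342, 0x14, 0x125, 0x251, 0x1224,
  0x1334, 0x12335, 0x23351, 0x122334, 0x134, 0x136, 0x143, 0x361, 0x1234, 0x1243, 0x1342, 0x1423, 0x12234,
  0x12236, 0x12243, 0x12356, 0x22361, 0x23516, 0x23561, 0x23615]
noncomputable def ea (t : ℕ × ℕ × ℕ × ℕ × ℕ) : List H :=
  sp (el t.1) (sp (el t.2.1) (sp (el t.2.2.1) (sp (el t.2.2.2.1) [1, el t.2.2.2.2])))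
noncomputable def As : List (List H) := [(4, 5, 6, 12, 17), (5, 12, 14, 256, 512), (5, 12, 121, 262, 516),
  (5, 6, 12, 14, 273), (5, 6, 12, 17, 18), (5, 6, 12, 17, 49), (5, 6, 12, 121, 270)].map ea

noncomputable instance decCj (y u : H) : Decidable (Cj y u) :=
  inferInstanceAs (Decidable (∃ g, g * y * g⁻¹ = u))

theorem dA : ∀ A ∈ As, A.Nodup ∧ 16 < A.length ∧ ∀ w ∈ A, w * w = 1 ∧ ∀ v ∈ A, w * v = v * w := by
  decide +kernel
theorem dI : ∀ h : H, h * h = 1 → h ∈ O ++ C4 ∨ ∃ A ∈ As, h ∈ A := by decide +kernel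
theorem dC : (∀ h ∈ C1, Cj (inl α e) h) ∧ (∀ h ∈ C2, Cj (inl α (p * s * (e * (a * s)))) h) ∧
    (∀ h ∈ C3, Cj (inl α (e * (b * s))) h) ∧ (∀ h ∈ C4, Cj ⟨e, K4.w⟩ h) ∧ (O ++ C4).Nodup ∧ O.Nodup ∧
    inl α (e * s) ∈ O ∧ inl α e ∈ O := by decide +kernel
theorem dO : ∀ g ∈ gs.map (inl α) ++ [inr α K4.n, inr α K4.w], ∀ h ∈ O, g * h * g⁻¹ ∈ O := by decide +kernel
theorem dX : ∀ l ∈ lX, (∀ h ∈ O, ∃ c ∈ Oc, inl α (evw gs 16 c) = h ∧ inl α (evw l 16 c) ∈ O) ∧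
    (evw gs 16 0x421 = e * (a * s) ∧ evw l 16 0x421 = e * (b * s)) ∧
    inl α (evw l 16 0x42145) ∈ C3 := by decide +kernel
theorem dT : ∀ g ∈ R00.tb.gs, (evw gs 16 g = El.of R00.tb g ∧ evw lI 16 g = α.act K4.n (El.of R00.tb g)) ∧
    evw gs 16 g = El.of R00.tb g ∧ evw lU 16 g = α.act K4.w (El.of R00.tb g) := by decide +kernel
theorem dJ : ∀ u : H, u * inl α e = inl α e * u → u * inl α b = inl α b * u → u.k = 1 := by decide +kernel

theorem dB : ∀ B : E, B * B = b * b → p * a * B = B * (p * a) → p * s * B * (p * s) * B = 1 →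
    e * (a * s) * B = B * (e * (a * s)) → p * B = B * p → α.act K4.w B = (p * a)⁻¹ * B⁻¹ →
    B = q * b ∨ B = q * b * (a * a) := by decide +kernel

theorem dR : ∀ u : E, u = 1 ∨ (u = a * a ∨ u = b * b ∨ u = a * a * (b * b)) ∨ ∃ k ∈ [e, a, b, s, p, q],
    (u * k * u⁻¹ * k⁻¹ = a * a ∨ u * k * u⁻¹ * k⁻¹ = b * b ∨ u * k * u⁻¹ * k⁻¹ = a * a * (b * b)) ∨
    ∃ l ∈ [e, a, b, s, p, q], u * k * u⁻¹ * k⁻¹ * l * (u * k * u⁻¹ * k⁻¹)⁻¹ * l⁻¹ = a * a ∨
      u * k * u⁻¹ * k⁻¹ * l * (u * k * u⁻¹ * k⁻¹)⁻¹ * l⁻¹ = b * b ∨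
      u * k * u⁻¹ * k⁻¹ * l * (u * k * u⁻¹ * k⁻¹)⁻¹ * l⁻¹ = a * a * (b * b) := by decide +kernel

end Wr

end H30.CM
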